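import Groth.Prelude.Def_Isoc
import Mathlib.FieldTheory.Perfect
import Mathlib.RingTheory.PrincipalIdealDomain
import Mathlib.LinearAlgebra.FiniteDimensional.Basic
import Mathlib.LinearAlgebra.Dimension.Finite
import Mathlib.Algebra.GroupWithZero.Action.Pointwise.Set
import Mathlib.Tactic.Ring
import Mathlib.Tactic.FieldSimp
import Mathlib.Tactic.Linarith

/-! # Lattices in isocrystals -/

namespace Groth.Agent.IsocLib

open scoped Pointwise

universe u v

variable {p : ℕ} [Fact p.Prime] {k : Type u} [Field k] [CharP k p]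


theorem ne_zero_p : (p : (FractionRing (WittVector p k))) ≠ 0 := by
  rw [← map_natCast (algebraMap (WittVector p k) (FractionRing (WittVector p k)))]
  exact (map_ne_zero_iff _ (IsFractionRing.injective (WittVector p k) (FractionRing (WittVector p k)))).2 (WittVector.p_nonzero p k)

theorem zpow_ne (r : ℤ) : ((p : (FractionRing (WittVector p k))) ^ r) ≠ 0 := zpow_ne_zero r ne_zero_p

theorem algebraMap_p : algebraMap (WittVector p k) (FractionRing (WittVector p k)) (p : (WittVector p k)) = (p : (FractionRing (WittVector p k))) := map_natCast _ _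

/-- A twist preserving the integral structure. -/
structure Good (τ : (FractionRing (WittVector p k)) →+* (FractionRing (WittVector p k))) : Prop where
  bij : Function.Bijective τ
  intW : ∀ w : (WittVector p k), ∃ w' : (WittVector p k), τ (algebraMap (WittVector p k) (FractionRing (WittVector p k)) w) = algebraMap (WittVector p k) (FractionRing (WittVector p k)) w'
  surjW : ∀ w : (WittVector p k), ∃ w' : (WittVector p k), τ (algebraMap (WittVector p k) (FractionRing (WittVector p k)) w') = algebraMap (WittVector p k) (FractionRing (WittVector p k)) w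

theorem good_frob [PerfectRing k p] (a : ℤ) : Good (Isoc.frob p k a) where
  bij := (IsFractionRing.ringEquivOfRingEquiv (WittVector.frobeniusEquiv p k ^ a) : (FractionRing (WittVector p k)) ≃+* (FractionRing (WittVector p k))).bijective
  intW w := ⟨_, Isoc.frob_algebraMap p k a w⟩
  surjW w := ⟨(WittVector.frobeniusEquiv p k ^ a).symm w, by
    rw [Isoc.frob_algebraMap, RingEquiv.apply_symm_apply]⟩

theorem Good.pow {τ : (FractionRing (WittVector p k)) →+* (FractionRing (WittVector p k))} (hτ : Good τ) (n : ℕ) : Good (τ ^ n) := by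
  induction n with
  | zero => exact ⟨Function.bijective_id, fun w => ⟨w, rfl⟩, fun w => ⟨w, rfl⟩⟩
  | succ n ih =>
    refine ⟨?_, fun w => ?_, fun w => ?_⟩
    · rw [pow_succ', RingHom.coe_mul]; exact hτ.bij.comp ih.bij
    · obtain ⟨w₁, h₁⟩ := ih.intW w
      obtain ⟨w₂, h₂⟩ := hτ.intW w₁
      exact ⟨w₂, by rw [pow_succ', RingHom.coe_mul, Function.comp_apply, h₁, h₂]⟩
    · obtain ⟨w₁, h₁⟩ := hτ.surjW w
      obtain ⟨w₂, h₂⟩ := ih.surjW w₁
      exact ⟨w₂, by rw [pow_succ', RingHom.coe_mul, Function.comp_apply, h₂, h₁]⟩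

theorem tau_zpow (τ : (FractionRing (WittVector p k)) →+* (FractionRing (WittVector p k))) (r : ℤ) : τ ((p : (FractionRing (WittVector p k))) ^ r) = (p : (FractionRing (WittVector p k))) ^ r := by
  rw [map_zpow₀, map_natCast]

variable {N : Type v} [AddCommGroup N] [Module (WittVector p k) N] [Module (FractionRing (WittVector p k)) N] [IsScalarTower (WittVector p k) (FractionRing (WittVector p k)) N]
variable {τ : (FractionRing (WittVector p k)) →+* (FractionRing (WittVector p k))} (F : N →ₛₗ[τ] N)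

omit [CharP k p] [IsScalarTower (WittVector p k) (FractionRing (WittVector p k)) N] [Module (WittVector p k) N] in
theorem iterate_smul (n : ℕ) (c : (FractionRing (WittVector p k))) (x : N) : (⇑F)^[n] (c • x) = (τ ^ n) c • (⇑F)^[n] x :=
  (Isoc.iter F n).map_smulₛₗ c x

omit [IsScalarTower (WittVector p k) (FractionRing (WittVector p k)) N] [Module (WittVector p k) N] in
theorem iterate_zpow_smul (n : ℕ) (r : ℤ) (x : N) :
    (⇑F)^[n] ((p : (FractionRing (WittVector p k))) ^ r • x) = (p : (FractionRing (WittVector p k))) ^ r • (⇑F)^[n] x := by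
  rw [iterate_smul, tau_zpow]

theorem smul_eq_algebraMap (w : (WittVector p k)) (x : N) : w • x = algebraMap (WittVector p k) (FractionRing (WittVector p k)) w • x := (algebraMap_smul (FractionRing (WittVector p k)) w x).symm

theorem mem_pPow {r : ℤ} {M : Submodule (WittVector p k) N} {x : N} :
    x ∈ Isoc.pPow r M ↔ (p : (FractionRing (WittVector p k))) ^ (-r) • x ∈ M := by
  constructor
  · intro hx
    obtain ⟨y, hy, rfl⟩ := hx
    rwa [DistribSMul.toLinearMap_apply, smul_smul, ← zpow_add₀ ne_zero_p, neg_add_cancel, zpow_zero, one_smul]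
  · intro hx
    refine ⟨_, hx, ?_⟩
    rw [DistribSMul.toLinearMap_apply, smul_smul, ← zpow_add₀ ne_zero_p, add_neg_cancel, zpow_zero, one_smul]

theorem smul_mem_pPow {r : ℤ} {M : Submodule (WittVector p k) N} {x : N} (hx : x ∈ M) : (p : (FractionRing (WittVector p k))) ^ r • x ∈ Isoc.pPow r M :=
  mem_pPow.2 (by rwa [smul_smul, ← zpow_add₀ ne_zero_p, neg_add_cancel, zpow_zero, one_smul])

theorem pPow_zero (M : Submodule (WittVector p k) N) : Isoc.pPow 0 M = M := by
  ext x; rw [mem_pPow, neg_zero, zpow_zero, one_smul]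

theorem pPow_pPow (r s : ℤ) (M : Submodule (WittVector p k) N) : Isoc.pPow r (Isoc.pPow s M) = Isoc.pPow (r + s) M := by
  ext x; rw [mem_pPow, mem_pPow, mem_pPow, smul_smul, ← zpow_add₀ ne_zero_p, neg_add, add_comm (-r)]

theorem pPow_mono (r : ℤ) {M M' : Submodule (WittVector p k) N} (h : M ≤ M') : Isoc.pPow r M ≤ Isoc.pPow r M' :=
  fun _ hx => mem_pPow.2 (h (mem_pPow.1 hx))

theorem pPow_le_iff (r : ℤ) {M M' : Submodule (WittVector p k) N} :
    Isoc.pPow r M ≤ M' ↔ M ≤ Isoc.pPow (-r) M' := by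
  constructor <;> intro h <;> have h' := pPow_mono (-r) h
  · rwa [pPow_pPow, neg_add_cancel, pPow_zero] at h'
  · have h'' := pPow_mono r h
    rwa [pPow_pPow r (-r), add_neg_cancel, pPow_zero] at h''

theorem pPow_anti {r r' : ℤ} (h : r ≤ r') (M : Submodule (WittVector p k) N) : Isoc.pPow r' M ≤ Isoc.pPow r M := by
  intro x hx
  obtain ⟨n, hn⟩ := Int.eq_ofNat_of_zero_le (sub_nonneg.2 h)
  rw [mem_pPow] at hx ⊢
  have : (p : (FractionRing (WittVector p k))) ^ (-r) • x = ((p : (WittVector p k)) ^ n) • ((p : (FractionRing (WittVector p k))) ^ (-r') • x) := by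
    rw [smul_eq_algebraMap ((p : (WittVector p k)) ^ n), map_pow, algebraMap_p, smul_smul,
      ← zpow_natCast, ← zpow_add₀ ne_zero_p, ← hn]
    congr 2; ring
  rw [this]
  exact M.smul_mem _ hx

theorem pPow_sup (r : ℤ) (M M' : Submodule (WittVector p k) N) :
    Isoc.pPow r (M ⊔ M') = Isoc.pPow r M ⊔ Isoc.pPow r M' := by
  refine le_antisymm ?_ (sup_le (pPow_mono r le_sup_left) (pPow_mono r le_sup_right))
  rw [pPow_le_iff]
  refine sup_le ?_ ?_ <;> rw [← pPow_le_iff]
  exacts [le_sup_left, le_sup_right]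

theorem mem_latImg (hτ : Good τ) {s : ℕ} {M : Submodule (WittVector p k) N} {x : N} :
    x ∈ Isoc.latImg F s M ↔ ∃ m ∈ M, (⇑F)^[s] m = x := by
  refine ⟨fun hx => ?_, fun ⟨m, hm, h⟩ => h ▸ Submodule.subset_span ⟨m, hm, rfl⟩⟩
  induction hx using Submodule.span_induction with
  | mem y hy => exact hy
  | zero => exact ⟨0, M.zero_mem, iterate_map_zero F s⟩
  | add y z _ _ hy hz =>
    obtain ⟨m, hm, rfl⟩ := hy
    obtain ⟨m', hm', rfl⟩ := hz
    exact ⟨m + m', M.add_mem hm hm', iterate_map_add F s m m'⟩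
  | smul w y _ hy =>
    obtain ⟨m, hm, rfl⟩ := hy
    obtain ⟨w', hw'⟩ := (hτ.pow s).surjW w
    exact ⟨w' • m, M.smul_mem _ hm, by rw [smul_eq_algebraMap w', iterate_smul, hw', ← smul_eq_algebraMap]⟩

theorem latImg_le_iff {s : ℕ} {M M' : Submodule (WittVector p k) N} :
    Isoc.latImg F s M ≤ M' ↔ ∀ m ∈ M, (⇑F)^[s] m ∈ M' := by
  rw [Isoc.latImg, Submodule.span_le, Set.image_subset_iff]; rfl

theorem mem_latImg_of_mem {s : ℕ} {M : Submodule (WittVector p k) N} {m : N} (hm : m ∈ M) :
    (⇑F)^[s] m ∈ Isoc.latImg F s M := Submodule.subset_span ⟨m, hm, rfl⟩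

theorem latImg_mono (s : ℕ) {M M' : Submodule (WittVector p k) N} (h : M ≤ M') :
    Isoc.latImg F s M ≤ Isoc.latImg F s M' :=
  (latImg_le_iff F).2 fun _ hm => mem_latImg_of_mem F (h hm)

theorem latImg_zero (M : Submodule (WittVector p k) N) : Isoc.latImg F 0 M = M := by
  rw [Isoc.latImg, Function.iterate_zero, Set.image_id, Submodule.span_eq]

theorem latImg_add (hτ : Good τ) (s t : ℕ) (M : Submodule (WittVector p k) N) :
    Isoc.latImg F (s + t) M = Isoc.latImg F s (Isoc.latImg F t M) := by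
  ext x
  simp only [mem_latImg F hτ, Function.iterate_add_apply]
  exact ⟨fun ⟨m, hm, h⟩ => ⟨_, ⟨m, hm, rfl⟩, h⟩, fun ⟨_, ⟨m, hm, rfl⟩, h⟩ => ⟨m, hm, h⟩⟩

theorem latImg_pPow (hτ : Good τ) (s : ℕ) (r : ℤ) (M : Submodule (WittVector p k) N) :
    Isoc.latImg F s (Isoc.pPow r M) = Isoc.pPow r (Isoc.latImg F s M) := by
  ext x
  simp only [mem_latImg F hτ, mem_pPow]
  refine ⟨fun ⟨m, hm, h⟩ => ⟨_, hm, by rw [iterate_zpow_smul, h]⟩, fun ⟨m, hm, h⟩ => ⟨(p : (FractionRing (WittVector p k))) ^ r • m, ?_, ?_⟩⟩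
  · rwa [smul_smul, ← zpow_add₀ ne_zero_p, neg_add_cancel, zpow_zero, one_smul]
  · rw [iterate_zpow_smul, h, smul_smul, ← zpow_add₀ ne_zero_p, add_neg_cancel, zpow_zero, one_smul]

theorem latImg_sup (hτ : Good τ) (s : ℕ) (M M' : Submodule (WittVector p k) N) :
    Isoc.latImg F s (M ⊔ M') = Isoc.latImg F s M ⊔ Isoc.latImg F s M' := by
  refine le_antisymm ((latImg_le_iff F).2 fun x hx => ?_)
    (sup_le (latImg_mono F s le_sup_left) (latImg_mono F s le_sup_right))
  obtain ⟨y, hy, z, hz, rfl⟩ := Submodule.mem_sup.1 hx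
  rw [iterate_map_add]
  exact Submodule.add_mem_sup (mem_latImg_of_mem F hy) (mem_latImg_of_mem F hz)

theorem fg_latImg (hτ : Good τ) (s : ℕ) {M : Submodule (WittVector p k) N} (hM : M.FG) : (Isoc.latImg F s M).FG := by
  classical
  obtain ⟨t, rfl⟩ := hM
  refine ⟨t.image (⇑F)^[s], le_antisymm (Submodule.span_le.2 fun x hx => ?_) ((latImg_le_iff F).2 fun m hm => ?_)⟩
  · obtain ⟨y, hy, rfl⟩ := Finset.mem_image.1 hx
    exact mem_latImg_of_mem F (Submodule.subset_span hy)
  · induction hm using Submodule.span_induction with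
    | mem y hy => exact Submodule.subset_span (Finset.mem_image_of_mem _ hy)
    | zero => rw [iterate_map_zero]; exact zero_mem _
    | add y z _ _ hy hz => rw [iterate_map_add]; exact add_mem hy hz
    | smul w y _ hy =>
      obtain ⟨w', hw'⟩ := (hτ.pow s).intW w
      rw [smul_eq_algebraMap w, iterate_smul, hw', ← smul_eq_algebraMap]
      exact Submodule.smul_mem _ _ hy

variable [PerfectRing k p]

theorem exists_zpow_mul (c : (FractionRing (WittVector p k))) : ∃ (n : ℕ) (w : (WittVector p k)), (p : (FractionRing (WittVector p k))) ^ (n : ℤ) * c = algebraMap (WittVector p k) (FractionRing (WittVector p k)) w := by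
  obtain ⟨x, y, hy, rfl⟩ := IsFractionRing.div_surjective (WittVector p k) c
  obtain ⟨n, u, hu⟩ := WittVector.exists_eq_pow_p_mul' y (nonZeroDivisors.ne_zero hy)
  refine ⟨n, x * ↑u⁻¹, ?_⟩
  rw [hu, map_mul, map_mul, map_pow, algebraMap_p, zpow_natCast, map_units_inv]
  have h1 : algebraMap (WittVector p k) (FractionRing (WittVector p k)) (u : (WittVector p k)) ≠ 0 := (u.isUnit.map _).ne_zero
  have h2 : (p : (FractionRing (WittVector p k))) ^ n ≠ 0 := pow_ne_zero n ne_zero_p
  field_simp

end Groth.Agent.IsocLib
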