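import Groth.Agent.IsocLib.Basic
import Groth.Agent.SigmaLinLib.AlgPow
import Mathlib.Algebra.Ring.Aut

/-! # The residual action of a power of Frobenius -/

namespace Groth.Agent.IsocLib

universe u

variable {p : ℕ} [Fact p.Prime] {k : Type u} [Field k] [CharP k p] [PerfectRing k p]

theorem coeff_zero_frob_zpow (n : ℤ) (w : WittVector p k) :
    WittVector.constantCoeff ((WittVector.frobeniusEquiv p k ^ n) w) =
      (frobeniusEquiv k p ^ n) (WittVector.constantCoeff w) := by
  have h1 : ∀ w : WittVector p k, WittVector.constantCoeff (WittVector.frobeniusEquiv p k w) =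
      frobeniusEquiv k p (WittVector.constantCoeff w) := fun w => WittVector.coeff_frobenius_charP p w 0
  induction n using Int.induction_on generalizing w with
  | zero => rw [zpow_zero, zpow_zero]; rfl
  | succ n ih => rw [zpow_add_one, zpow_add_one, RingAut.mul_apply, ih, h1]; rfl
  | pred n ih =>
    have h2 := h1 ((WittVector.frobeniusEquiv p k).symm w)
    rw [RingEquiv.apply_symm_apply] at h2
    rw [zpow_sub_one, zpow_sub_one, RingAut.mul_apply, ih]
    change _ = (frobeniusEquiv k p ^ (-(n : ℤ))) ((frobeniusEquiv k p).symm _)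
    rw [h2, RingEquiv.symm_apply_apply]
    rfl

theorem pow_apply_frobeniusEquiv (m : ℕ) (x : k) : (frobeniusEquiv k p ^ m) x = x ^ p ^ m := by
  induction m generalizing x with
  | zero => simp
  | succ m ih =>
    rw [pow_succ, RingAut.mul_apply, ih, frobeniusEquiv_apply, frobenius_def, ← pow_mul, pow_succ']

theorem frob_pow_algebraMap (a : ℤ) (h : ℕ) (w : WittVector p k) :
    (Isoc.frob p k a ^ h) (algebraMap (WittVector p k) (FractionRing (WittVector p k)) w) =
      algebraMap (WittVector p k) (FractionRing (WittVector p k)) ((WittVector.frobeniusEquiv p k ^ (a * h)) w) := by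
  induction h with
  | zero => rw [Nat.cast_zero, mul_zero, zpow_zero, pow_zero]; rfl
  | succ h ih =>
    rw [pow_succ', RingHom.coe_mul, Function.comp_apply, ih, Isoc.frob_algebraMap,
      show a * ((h + 1 : ℕ) : ℤ) = a + a * h by push_cast; ring, zpow_add, RingAut.mul_apply]

/-- The twist acts on the residue field by a map for which Lang's theorem holds. -/
theorem exists_resFrob [IsAlgClosed k] {a : ℤ} (ha : a ≠ 0) {h : ℕ} (hh : 0 < h) :
    ∃ σ : k →+* k, Function.Surjective σ ∧
      (∀ (n : ℕ) (b : Fin (n + 1) → k), b ≠ 0 →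
        ∃ x : k, x ≠ 0 ∧ x = ∑ i : Fin (n + 1), (⇑σ)^[i.val + 1] x * (⇑σ)^[i.val] (b (Fin.rev i))) ∧
      (∀ c : k, ∃ y : k, σ y - y + c = 0) ∧
      ∀ w w' : WittVector p k, (Isoc.frob p k a ^ h) (algebraMap (WittVector p k) (FractionRing (WittVector p k)) w) =
        algebraMap (WittVector p k) (FractionRing (WittVector p k)) w' → WittVector.constantCoeff w' = σ (WittVector.constantCoeff w) := by
  set n : ℤ := a * h with hn
  have hn0 : n ≠ 0 := mul_ne_zero ha (Int.natCast_ne_zero.2 hh.ne')
  have hm : 0 < n.natAbs := Int.natAbs_pos.2 hn0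
  have hq : 1 < p ^ n.natAbs := Nat.one_lt_pow hm.ne' (Fact.out : p.Prime).one_lt
  refine ⟨(frobeniusEquiv k p ^ n).toRingHom, (frobeniusEquiv k p ^ n).surjective, ?_, ?_, fun w w' h => ?_⟩
  rotate_right
  · rw [frob_pow_algebraMap] at h
    rw [← IsFractionRing.injective (WittVector p k) (FractionRing (WittVector p k)) h]
    exact coeff_zero_frob_zpow n w
  all_goals rcases n.natAbs_eq with he | he
  · exact SigmaLinLib.pow_fixed_eq hq _ fun x => by
      change (frobeniusEquiv k p ^ n) x = _
      conv_lhs => rw [he, zpow_natCast]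
      exact pow_apply_frobeniusEquiv _ x
  · exact SigmaLinLib.root_fixed_eq hq _ fun x => by
      change (frobeniusEquiv k p ^ n) (x ^ _) = _
      rw [← pow_apply_frobeniusEquiv, ← zpow_natCast (frobeniusEquiv k p), ← RingAut.mul_apply, ← zpow_add,
        show n + (n.natAbs : ℤ) = 0 by omega, zpow_zero]
      rfl
  · intro c
    obtain ⟨y, hy⟩ := SigmaLinLib.exists_pow_sub_eq hq c
    refine ⟨y, ?_⟩
    change (frobeniusEquiv k p ^ n) y - y + c = 0
    rw [he, zpow_natCast, pow_apply_frobeniusEquiv]
    exact hy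
  · exact fun c => SigmaLinLib.root_sub_eq hq _ (fun x => by
      change (frobeniusEquiv k p ^ n) (x ^ _) = _
      rw [← pow_apply_frobeniusEquiv, ← zpow_natCast (frobeniusEquiv k p), ← RingAut.mul_apply, ← zpow_add,
        show n + (n.natAbs : ℤ) = 0 by omega, zpow_zero]
      rfl) c

end Groth.Agent.IsocLib
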