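import Groth.Agent.IsocLib.Det
import Mathlib.Analysis.Subadditive
import Mathlib.Analysis.SpecificLimits.Basic
import Mathlib.NumberTheory.DiophantineApproximation.Basic
import Mathlib.RingTheory.Nakayama
import Mathlib.RingTheory.WittVector.Teichmuller
import Mathlib.LinearAlgebra.Dimension.Constructions

/-! # Slopes -/

namespace Groth.Agent.IsocLib

open scoped Pointwise
open Filter Topology

universe u v

variable {p : ℕ} [Fact p.Prime] {k : Type u} [Field k] [CharP k p] [PerfectRing k p]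
variable {N : Type v} [AddCommGroup N] [Module (WittVector p k) N] [Module (FractionRing (WittVector p k)) N] [IsScalarTower (WittVector p k) (FractionRing (WittVector p k)) N]
variable {τ : (FractionRing (WittVector p k)) →+* (FractionRing (WittVector p k))} (F : N →ₛₗ[τ] N)

/-- `p ^ m • F ^ n`. -/
noncomputable def twistIter (m : ℤ) (n : ℕ) : N →ₛₗ[τ ^ n] N := (p : (FractionRing (WittVector p k))) ^ m • Isoc.iter F n

theorem twistIter_iterate (m : ℤ) (n j : ℕ) (x : N) :
    (⇑(twistIter F m n))^[j] x = (p : (FractionRing (WittVector p k))) ^ (m * j) • (⇑F)^[n * j] x := by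
  induction j with
  | zero => simp
  | succ j ih =>
    rw [Function.iterate_succ_apply', ih]
    change (p : (FractionRing (WittVector p k))) ^ m • (⇑F)^[n] _ = _
    rw [iterate_zpow_smul, smul_smul, ← zpow_add₀ ne_zero_p, ← Function.iterate_add_apply,
      show n + n * j = n * (j + 1) by ring]
    congr 2
    push_cast
    ring

theorem isIsoc_twistIter (hF : Isoc.IsIsoc F) (m : ℤ) (n : ℕ) : Isoc.IsIsoc (twistIter F m n) := by
  refine ⟨hF.finite, fun x y h => ?_, fun x => ?_⟩
  · exact hF.bijective.1.iterate n (smul_right_injective N (zpow_ne m) h)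
  · obtain ⟨y, hy⟩ := hF.bijective.2.iterate n ((p : (FractionRing (WittVector p k))) ^ (-m) • x)
    refine ⟨y, ?_⟩
    change (p : (FractionRing (WittVector p k))) ^ m • (⇑F)^[n] y = x
    rw [hy, smul_smul, ← zpow_add₀ ne_zero_p, add_neg_cancel, zpow_zero, one_smul]

theorem latImg_twistIter (hτ : Good τ) (m : ℤ) (n j : ℕ) (M : Submodule (WittVector p k) N) :
    Isoc.latImg (twistIter F m n) j M = Isoc.pPow (m * j) (Isoc.latImg F (n * j) M) := by
  ext x
  rw [mem_latImg _ (hτ.pow n), mem_pPow, mem_latImg F hτ]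
  simp only [twistIter_iterate]
  refine exists_congr fun y => and_congr_right fun _ => ⟨fun h => ?_, fun h => ?_⟩
  · rw [← h, smul_smul, ← zpow_add₀ ne_zero_p, neg_add_cancel, zpow_zero, one_smul]
  · rw [h, smul_smul, ← zpow_add₀ ne_zero_p, add_neg_cancel, zpow_zero, one_smul]

theorem latImg_twistIter_le (hτ : Good τ) {m : ℤ} {n j : ℕ} {M : Submodule (WittVector p k) N} {r : ℤ} :
    Isoc.latImg (twistIter F m n) j M ≤ Isoc.pPow r M ↔ Isoc.latImg F (n * j) M ≤ Isoc.pPow (r - m * j) M := by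
  rw [latImg_twistIter F hτ, pPow_le_iff, pPow_pPow, neg_add_eq_sub]

theorem isOrd_twistIter (hτ : Good τ) {m : ℤ} {n j : ℕ} {M : Submodule (WittVector p k) N} {o : ℤ}
    (h : Isoc.IsOrd M F (n * j) o) : Isoc.IsOrd M (twistIter F m n) j (o + m * j) := by
  refine ⟨(latImg_twistIter_le F hτ).2 ?_, fun h' => h.2 ?_⟩
  · rw [add_sub_cancel_right]; exact h.1
  · have h'' := (latImg_twistIter_le F hτ).1 h'
    rwa [show o + m * j + 1 - m * j = o + 1 by ring] at h''

theorem isOrd_zero [Nontrivial N] {M : Submodule (WittVector p k) N} (hM : M.IsLattice (FractionRing (WittVector p k))) : Isoc.IsOrd M F 0 0 :=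
  isOrd_of_eq F hM (by rw [latImg_zero, pPow_zero])

theorem exists_ord_fun [Nontrivial N] (hF : Isoc.IsIsoc F) (hτ : Good τ) {M : Submodule (WittVector p k) N}
    (hM : M.IsLattice (FractionRing (WittVector p k))) : ∃ o : ℕ → ℤ, ∀ n, Isoc.IsOrd M F n (o n) :=
  ⟨fun n => (exists_isOrd F hF hτ hM n).choose, fun n => (exists_isOrd F hF hτ hM n).choose_spec⟩

theorem le_iterate (hτ : Good τ) {M : Submodule (WittVector p k) N} {s : ℕ} {r : ℤ}
    (h : Isoc.latImg F s M ≤ Isoc.pPow r M) : ∀ q : ℕ, Isoc.latImg F (s * q) M ≤ Isoc.pPow (r * q) M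
  | 0 => by rw [mul_zero, latImg_zero, Nat.cast_zero, mul_zero, pPow_zero]
  | q + 1 => by
    rw [show s * (q + 1) = s + s * q by ring, latImg_add F hτ,
      show r * ((q + 1 : ℕ) : ℤ) = r * q + r by push_cast; ring, ← pPow_pPow]
    exact (latImg_mono F s (le_iterate hτ h q)).trans
      ((latImg_pPow F hτ s _ M).le.trans (pPow_mono _ h))

theorem eq_iterate (hτ : Good τ) {M : Submodule (WittVector p k) N} {s : ℕ} {r : ℤ}
    (h : Isoc.latImg F s M = Isoc.pPow r M) : ∀ q : ℕ, Isoc.latImg F (s * q) M = Isoc.pPow (r * q) M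
  | 0 => by rw [mul_zero, latImg_zero, Nat.cast_zero, mul_zero, pPow_zero]
  | q + 1 => by
    rw [show s * (q + 1) = s + s * q by ring, latImg_add F hτ, eq_iterate hτ h q,
      latImg_pPow F hτ, h, pPow_pPow, show r * ((q + 1 : ℕ) : ℤ) = r * q + r by push_cast; ring]

theorem ord_add_le (hτ : Good τ) {M : Submodule (WittVector p k) N} {m n : ℕ} {a b c : ℤ}
    (ha : Isoc.IsOrd M F m a) (hb : Isoc.IsOrd M F n b) (hc : Isoc.IsOrd M F (m + n) c) : a + b ≤ c := by
  refine le_of_isOrd F hc ?_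
  rw [latImg_add F hτ, add_comm a, ← pPow_pPow]
  exact (latImg_mono F m hb.1).trans ((latImg_pPow F hτ m _ M).le.trans (pPow_mono _ ha.1))

theorem ord_bound [Nontrivial N] (hF : Isoc.IsIsoc F) (hτ : Good τ) {M : Submodule (WittVector p k) N}
    (hM : M.IsLattice (FractionRing (WittVector p k))) : ∃ c : ℤ, ∀ n o, Isoc.IsOrd M F n o → o ≤ n * c := by
  obtain ⟨c, hc⟩ := exists_le_pPow (isLattice_latImg F hF hτ 1 hM) hM.fg
  refine ⟨-c, fun n o ho => ?_⟩
  have h : ∀ q : ℕ, Isoc.pPow (-c * q) M ≤ Isoc.latImg F q M := fun q => by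
    induction q with
    | zero => rw [latImg_zero, Nat.cast_zero, mul_zero, pPow_zero]
    | succ q ih =>
      rw [latImg_add F hτ q 1, show -c * ((q + 1 : ℕ) : ℤ) = -c * q + -c by push_cast; ring, ← pPow_pPow]
      refine le_trans ?_ (latImg_mono F q (M := Isoc.pPow (-c) M) ((pPow_le_iff (-c)).2 (by rwa [neg_neg])))
      rw [latImg_pPow F hτ, pPow_pPow, show -c * (q : ℤ) + -c = -c + -c * q by ring, ← pPow_pPow]
      exact pPow_mono _ ih
  have := le_of_pPow_le hM ((h n).trans ho.1)
  linarith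

theorem exists_tendsto [Nontrivial N] (hF : Isoc.IsIsoc F) (hτ : Good τ) {M : Submodule (WittVector p k) N}
    (hM : M.IsLattice (FractionRing (WittVector p k))) (o : ℕ → ℤ) (ho : ∀ n, 1 ≤ n → Isoc.IsOrd M F n (o n)) :
    ∃ lam : ℝ, Tendsto (fun n : ℕ => (o n : ℝ) / n) atTop (𝓝 lam) := by
  obtain ⟨o', ho'⟩ := exists_ord_fun F hF hτ hM
  have hsub : Subadditive (fun n => -(o' n : ℝ)) := fun m n => by
    have h := ord_add_le F hτ (ho' m) (ho' n) (ho' (m + n))
    have : ((o' m : ℝ) + o' n) ≤ o' (m + n) := by exact_mod_cast h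
    linarith
  obtain ⟨c, hc⟩ := ord_bound F hF hτ hM
  have hbdd : BddBelow (Set.range fun n : ℕ => -(o' n : ℝ) / n) := by
    refine ⟨min 0 (-(c : ℝ)), ?_⟩
    rintro _ ⟨n, rfl⟩
    rcases Nat.eq_zero_or_pos n with hn | hn
    · simp [hn]
    · refine (min_le_right _ _).trans ((le_div_iff₀ (by exact_mod_cast hn)).2 ?_)
      have : (o' n : ℝ) ≤ n * c := by exact_mod_cast hc n _ (ho' n)
      nlinarith
  refine ⟨-hsub.lim, (hsub.tendsto_lim hbdd).neg.congr' ?_⟩
  filter_upwards [eventually_ge_atTop 1] with n hn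
  rw [isOrd_unique F (ho n hn) (ho' n), neg_div, neg_neg]

theorem tendsto_indep (hτ : Good τ) {M₁ M₂ : Submodule (WittVector p k) N} (hM₁ : M₁.IsLattice (FractionRing (WittVector p k)))
    (hM₂ : M₂.IsLattice (FractionRing (WittVector p k))) {o₁ o₂ : ℕ → ℤ} (ho₁ : ∀ n, 1 ≤ n → Isoc.IsOrd M₁ F n (o₁ n))
    (ho₂ : ∀ n, 1 ≤ n → Isoc.IsOrd M₂ F n (o₂ n)) {l₁ l₂ : ℝ}
    (h₁ : Tendsto (fun n : ℕ => (o₁ n : ℝ) / n) atTop (𝓝 l₁))
    (h₂ : Tendsto (fun n : ℕ => (o₂ n : ℝ) / n) atTop (𝓝 l₂)) : l₁ ≤ l₂ := by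
  obtain ⟨c, hc⟩ := exists_le_pPow hM₁ hM₂.fg
  obtain ⟨d, hd⟩ := exists_le_pPow hM₂ hM₁.fg
  have h3 : ∀ n, 1 ≤ n → o₁ n + (c + d) ≤ o₂ n := fun n hn => le_of_isOrd F (ho₂ n hn) (by
    refine (latImg_mono F n hc).trans ?_
    rw [latImg_pPow F hτ, show o₁ n + (c + d) = c + (o₁ n + d) by ring, ← pPow_pPow c, ← pPow_pPow]
    exact pPow_mono _ ((ho₁ n hn).1.trans (pPow_mono _ hd)))
  have h4 : Tendsto (fun n : ℕ => (o₁ n : ℝ) / n + ((c + d : ℤ) : ℝ) / n) atTop (𝓝 l₁) := by
    simpa using h₁.add (tendsto_const_div_atTop_nhds_zero_nat ((c + d : ℤ) : ℝ))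
  refine le_of_tendsto_of_tendsto h4 h₂ ?_
  filter_upwards [eventually_ge_atTop 1] with n hn
  rw [← add_div]
  exact div_le_div_of_nonneg_right (by exact_mod_cast h3 n hn) (Nat.cast_nonneg n)

theorem firstSlope_tendsto (hτ : Good τ) {lam : ℝ} (hlam : Isoc.IsFirstSlope F lam)
    {M : Submodule (WittVector p k) N} (hM : M.IsLattice (FractionRing (WittVector p k))) (hF : Isoc.IsIsoc F) [Nontrivial N] {o : ℕ → ℤ}
    (ho : ∀ n, 1 ≤ n → Isoc.IsOrd M F n (o n)) : Tendsto (fun n : ℕ => (o n : ℝ) / n) atTop (𝓝 lam) := by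
  obtain ⟨M', hM', o', ho', h'⟩ := hlam
  obtain ⟨l, hl⟩ := exists_tendsto F hF hτ hM o ho
  rwa [le_antisymm (tendsto_indep F hτ hM' hM ho' ho h' hl) (tendsto_indep F hτ hM hM' ho ho' hl h')]

theorem nontrivial_of_firstSlope {lam : ℝ} (hlam : Isoc.IsFirstSlope F lam) : Nontrivial N := by
  by_contra h
  rw [not_nontrivial_iff_subsingleton] at h
  obtain ⟨M, -, o, ho, -⟩ := hlam
  exact (ho 1 le_rfl).2 fun x _ => by rw [Subsingleton.elim x 0]; exact zero_mem _

theorem isFirstSlope_twistIter (hτ : Good τ) {lam : ℝ} (hlam : Isoc.IsFirstSlope F lam) (m : ℤ) (n : ℕ) :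
    Isoc.IsFirstSlope (twistIter F m n) (n * lam + m) := by
  haveI := nontrivial_of_firstSlope F hlam
  obtain ⟨M, hM, o, ho, hlim⟩ := hlam
  rcases Nat.eq_zero_or_pos n with rfl | hn
  · refine ⟨M, hM, fun j => m * j, fun j hj => ?_, ?_⟩
    · have := isOrd_twistIter F hτ (m := m) (n := 0) (j := j) (o := 0) (by rw [zero_mul]; exact isOrd_zero F hM)
      rwa [zero_add] at this
    · refine Tendsto.congr' ?_ (tendsto_const_nhds (x := ((0 : ℕ) : ℝ) * lam + m))
      filter_upwards [eventually_ge_atTop 1] with j hj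
      have : (j : ℝ) ≠ 0 := by positivity
      push_cast
      field_simp
      ring
  · refine ⟨M, hM, fun j => o (n * j) + m * j, fun j hj => isOrd_twistIter F hτ (ho _ (Nat.one_le_iff_ne_zero.2 (by positivity))), ?_⟩
    have h1 : Tendsto (fun j : ℕ => n * j) atTop atTop :=
      Tendsto.const_mul_atTop' hn tendsto_id
    refine Tendsto.congr' ?_ (((hlim.comp h1).const_mul (n : ℝ)).add_const (m : ℝ))
    filter_upwards [eventually_ge_atTop 1] with j hj
    have : (j : ℝ) ≠ 0 := by positivity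
    have : (n : ℝ) ≠ 0 := by positivity
    simp only [Function.comp_apply, Int.cast_add, Int.cast_mul, Int.cast_natCast, Nat.cast_mul]
    field_simp

theorem slope_ge_of_le [Nontrivial N] (hF : Isoc.IsIsoc F) (hτ : Good τ) {lam : ℝ}
    (hlam : Isoc.IsFirstSlope F lam) {M : Submodule (WittVector p k) N} (hM : M.IsLattice (FractionRing (WittVector p k))) {s : ℕ} (hs : 0 < s) {r : ℤ}
    (h : Isoc.latImg F s M ≤ Isoc.pPow r M) : (r : ℝ) / s ≤ lam := by
  obtain ⟨o, ho⟩ := exists_ord_fun F hF hτ hM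
  have hl := (firstSlope_tendsto F hτ hlam hM hF fun n _ => ho n).comp
    (Tendsto.const_mul_atTop' hs tendsto_id : Tendsto (fun q : ℕ => s * q) atTop atTop)
  refine ge_of_tendsto hl ?_
  filter_upwards [eventually_ge_atTop 1] with q hq
  have h1 : r * (q : ℤ) ≤ o (s * q) := le_of_isOrd F (ho _) (le_iterate F hτ h q)
  have h2 : (r : ℝ) * q ≤ o (s * q) := by exact_mod_cast h1
  have hq' : (0 : ℝ) < q := by exact_mod_cast hq
  have hs' : (0 : ℝ) < s := by exact_mod_cast hs
  simp only [Function.comp_apply, Nat.cast_mul]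
  rw [div_le_div_iff₀ hs' (mul_pos hs' hq')]
  nlinarith

/-- The submodules of a lattice modulo `p` form a space of dimension `h`. -/
theorem exists_residue_map {h : ℕ} (b : Module.Basis (Fin h) (FractionRing (WittVector p k)) N) {S : Submodule (WittVector p k) N}
    (hS : S.IsLattice (FractionRing (WittVector p k))) :
    ∃ φ : S →ₛₗ[(WittVector.constantCoeff : (WittVector p k) →+* k)] (Fin h → k), Function.Surjective φ ∧
      ∀ x : S, φ x = 0 ↔ (x : N) ∈ Isoc.pPow 1 S := by
  obtain ⟨c, hc⟩ := exists_lattice_basis b hS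
  subst hc
  let bS := Module.Basis.span (R := (WittVector p k)) (v := ⇑c)
    (c.linearIndependent.restrict_scalars (by
      intro x y hxy
      simp only [← algebraMap.smul', Algebra.smul_def, mul_one] at hxy
      exact IsFractionRing.injective (WittVector p k) (FractionRing (WittVector p k)) hxy))
  refine ⟨{ toFun := fun x i => WittVector.constantCoeff (bS.repr x i),
            map_add' := fun x y => by ext i; simp only [map_add, Finsupp.add_apply, Pi.add_apply],
            map_smul' := fun w x => by ext i; simp only [map_smul, Finsupp.smul_apply, Pi.smul_apply, smul_eq_mul, map_mul] }, fun y => ?_, fun x => ?_⟩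
  · refine ⟨bS.equivFun.symm fun i => WittVector.teichmuller p (y i), funext fun i => ?_⟩
    change WittVector.constantCoeff (bS.repr _ i) = _
    rw [show bS.repr (bS.equivFun.symm fun i => WittVector.teichmuller p (y i)) i = WittVector.teichmuller p (y i) from
      congrFun (bS.equivFun.apply_symm_apply _) i]
    exact WittVector.teichmuller_coeff_zero p (y i)
  · rw [mem_pPow]
    constructor
    · intro hx
      have hdiv : ∀ i, ∃ w, bS.repr x i = (p : (WittVector p k)) * w := fun i => by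
        have h0 : (bS.repr x i).coeff 0 = 0 := congrFun hx i
        by_cases hz : bS.repr x i = 0
        · exact ⟨0, by rw [hz, mul_zero]⟩
        · obtain ⟨m, u, hu⟩ := WittVector.exists_eq_pow_p_mul' (bS.repr x i) hz
          rcases Nat.eq_zero_or_pos m with rfl | hm
          · exfalso
            rw [hu, pow_zero, one_mul] at h0
            exact (u.isUnit.map WittVector.constantCoeff).ne_zero h0
          · exact ⟨(p : (WittVector p k)) ^ (m - 1) * u, by rw [hu, ← mul_assoc, ← pow_succ', Nat.sub_add_cancel hm]⟩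
      choose w hw using hdiv
      have hx' : x = (p : (WittVector p k)) • ∑ i, w i • bS i := by
        conv_lhs => rw [← bS.sum_repr x]
        rw [Finset.smul_sum]
        exact Finset.sum_congr rfl fun i _ => by rw [hw i, mul_smul]
      have h1 := congrArg Subtype.val hx'
      rw [Submodule.coe_smul, smul_eq_algebraMap, algebraMap_p] at h1
      rw [h1, smul_smul, zpow_neg, zpow_one, inv_mul_cancel₀ ne_zero_p, one_smul]
      exact Subtype.prop _
    · intro hx
      have hx' : x = (p : (WittVector p k)) • (⟨_, hx⟩ : Submodule.span (WittVector p k) (Set.range c)) := Subtype.ext (by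
        rw [Submodule.coe_smul, smul_eq_algebraMap, algebraMap_p, smul_smul, zpow_neg, zpow_one,
          mul_inv_cancel₀ ne_zero_p, one_smul])
      rw [hx', map_smulₛₗ, map_natCast, CharP.cast_eq_zero, zero_smul]

theorem finrank_stall {h : ℕ} (U : ℕ → Submodule k (Fin h → k)) (hm : ∀ j, j < h → U j ≤ U (j + 1))
    (h0 : U 0 ≠ ⊥) : ∃ j, j < h ∧ U (j + 1) = U j := by
  by_contra hcon
  push Not at hcon
  have : ∀ j, j ≤ h → j + 1 ≤ Module.finrank k (U j) := by
    intro j
    induction j with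
    | zero => intro _; exact Nat.one_le_iff_ne_zero.2 fun e => h0 (Submodule.finrank_eq_zero.1 e)
    | succ j ih =>
      intro hj
      have := Submodule.finrank_lt_finrank_of_lt (lt_of_le_of_ne (hm j (by omega)) (fun e => hcon j (by omega) e.symm))
      have := ih (by omega)
      omega
  have h1 := this h le_rfl
  have h2 := Submodule.finrank_le (U h)
  simp only [Module.finrank_fintype_fun_eq_card, Fintype.card_fin] at h2
  omega

theorem le_sup_of_map_le {h : ℕ} {S X Y : Submodule (WittVector p k) N} {φ : S →ₛₗ[(WittVector.constantCoeff : (WittVector p k) →+* k)] (Fin h → k)}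
    (hker : ∀ x : S, φ x = 0 ↔ (x : N) ∈ Isoc.pPow 1 S) (hY : Y ≤ S) (hX : X ≤ S)
    (hle : Submodule.span k (φ '' {x | (x : N) ∈ Y}) ≤ Submodule.span k (φ '' {x | (x : N) ∈ X})) :
    Y ≤ X ⊔ Isoc.pPow 1 S := by
  intro y hy
  have : φ ⟨y, hY hy⟩ ∈ φ '' {x | (x : N) ∈ X} := by
    have h1 := hle (Submodule.subset_span ⟨⟨y, hY hy⟩, hy, rfl⟩)
    generalize φ ⟨y, hY hy⟩ = v at h1 ⊢
    induction h1 using Submodule.span_induction with
    | mem z hz => exact hz
    | zero => exact ⟨0, X.zero_mem, map_zero φ⟩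
    | add a b _ _ ha hb =>
      obtain ⟨x, hx, rfl⟩ := ha
      obtain ⟨z, hz, rfl⟩ := hb
      exact ⟨x + z, X.add_mem hx hz, map_add φ x z⟩
    | smul c a _ ha =>
      obtain ⟨x, hx, rfl⟩ := ha
      refine ⟨WittVector.teichmuller p c • x, X.smul_mem _ hx, ?_⟩
      rw [map_smulₛₗ]
      congr 1
  obtain ⟨x, hx, hxy⟩ := this
  refine Submodule.mem_sup.2 ⟨(x : N), hx, y - x, ?_, add_sub_cancel _ _⟩
  exact (hker (⟨y, hY hy⟩ - x)).1 (by rw [map_sub, hxy, sub_self])

theorem le_of_le_sup_pPow {S X : Submodule (WittVector p k) N} (hS : S.FG) (h : S ≤ X ⊔ Isoc.pPow 1 S) : S ≤ X := by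
  refine Submodule.le_of_le_smul_of_le_jacobson_bot (I := Ideal.span {(p : (WittVector p k))}) hS ?_ (h.trans (sup_le_sup le_rfl ?_))
  · rw [Ideal.span_singleton_le_iff_mem]
    exact IsLocalRing.maximalIdeal_le_jacobson _ ((IsLocalRing.mem_maximalIdeal _).2 (WittVector.irreducible p).not_isUnit)
  · intro x hx
    rw [mem_pPow, zpow_neg, zpow_one] at hx
    rw [show x = (p : (WittVector p k)) • ((p : (FractionRing (WittVector p k)))⁻¹ • x) by
      rw [smul_eq_algebraMap, algebraMap_p, smul_smul, mul_inv_cancel₀ ne_zero_p, one_smul]]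
    exact Submodule.smul_mem_smul (Ideal.subset_span rfl) hx

/-- The sum of the images of `M` under the iterates up to `j`. -/
noncomputable def orbitSum (M : Submodule (WittVector p k) N) (j : ℕ) : Submodule (WittVector p k) N :=
  (Finset.range (j + 1)).sup fun i => Isoc.latImg F i M

theorem orbitSum_zero (M : Submodule (WittVector p k) N) : orbitSum F M 0 = M := by
  simp [orbitSum, latImg_zero]

theorem orbitSum_succ (M : Submodule (WittVector p k) N) (j : ℕ) :
    orbitSum F M (j + 1) = orbitSum F M j ⊔ Isoc.latImg F (j + 1) M := by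
  rw [orbitSum, Finset.range_add_one, Finset.sup_insert, sup_comm, orbitSum]

theorem orbitSum_mono (M : Submodule (WittVector p k) N) : Monotone (orbitSum F M) :=
  monotone_nat_of_le_succ fun j => by rw [orbitSum_succ]; exact le_sup_left

theorem latImg_orbitSum_le (hτ : Good τ) (M : Submodule (WittVector p k) N) :
    ∀ j, Isoc.latImg F 1 (orbitSum F M j) ≤ orbitSum F M (j + 1)
  | 0 => by rw [orbitSum_zero, orbitSum_succ]; exact le_sup_right
  | j + 1 => by
    rw [orbitSum_succ, latImg_sup F hτ, ← latImg_add F hτ, add_comm 1]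
    refine sup_le ((latImg_orbitSum_le hτ M j).trans (orbitSum_mono F M (Nat.le_succ _))) ?_
    rw [orbitSum_succ F M (j + 1)]
    exact le_sup_right

theorem isLattice_orbitSum (hτ : Good τ) {M : Submodule (WittVector p k) N} (hM : M.IsLattice (FractionRing (WittVector p k))) :
    ∀ j, (orbitSum F M j).IsLattice (FractionRing (WittVector p k))
  | 0 => by rwa [orbitSum_zero]
  | j + 1 => by
    haveI := isLattice_orbitSum hτ hM j
    refine Submodule.IsLattice.of_le_of_isLattice_of_fg (FractionRing (WittVector p k)) (M := orbitSum F M j) (orbitSum_mono F M (Nat.le_succ _)) ?_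
    rw [orbitSum_succ]
    exact Submodule.FG.sup (isLattice_orbitSum hτ hM j).fg (fg_latImg F hτ _ hM.fg)

theorem effective_of_height (hτ : Good τ) {h : ℕ} (b : Module.Basis (Fin h) (FractionRing (WittVector p k)) N) {M : Submodule (WittVector p k) N}
    (hM : M.IsLattice (FractionRing (WittVector p k))) (hFM : Isoc.latImg F (h + 1) M ≤ Isoc.pPow (-1) M) : Isoc.IsEffective F := by
  set S := orbitSum F M h with hS
  have hSl := isLattice_orbitSum F hτ hM h
  have hFS : Isoc.latImg F 1 S ≤ S ⊔ Isoc.pPow (-1) M := by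
    refine (latImg_orbitSum_le F hτ M h).trans ?_
    rw [orbitSum_succ]
    exact sup_le_sup le_rfl hFM
  have hMS : M ≤ S := by
    have h0 := orbitSum_mono F M (Nat.zero_le h)
    rwa [orbitSum_zero] at h0
  by_cases hc : M ≤ Isoc.pPow 1 S
  · exact ⟨S, hSl, hFS.trans (sup_le le_rfl ((pPow_le_iff (-1)).2 (by rwa [neg_neg])))⟩
  obtain ⟨φ, -, hker⟩ := exists_residue_map b hSl
  obtain ⟨j, hj, he⟩ := finrank_stall (fun j => Submodule.span k (φ '' {x | (x : N) ∈ orbitSum F M j}))
    (fun j _ => Submodule.span_mono (Set.image_mono fun x hx => orbitSum_mono F M (Nat.le_succ j) hx))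
    (fun e => hc fun x hx => by
      refine (hker ⟨x, hMS hx⟩).1 ((Submodule.mem_bot k).1 (e ▸ Submodule.subset_span ⟨⟨x, hMS hx⟩, ?_, rfl⟩))
      change x ∈ orbitSum F M 0
      rwa [orbitSum_zero])
  have h1 : orbitSum F M (j + 1) ≤ orbitSum F M j ⊔ Isoc.pPow 1 S :=
    le_sup_of_map_le hker (orbitSum_mono F M (by omega)) (orbitSum_mono F M (by omega)) he.le
  have hpF : Isoc.latImg F 1 (Isoc.pPow 1 S) ≤ orbitSum F M j ⊔ Isoc.pPow 1 S := by
    rw [latImg_pPow F hτ]
    refine (pPow_mono 1 hFS).trans ?_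
    rw [pPow_sup, pPow_pPow, add_neg_cancel, pPow_zero]
    refine sup_le le_sup_right (le_trans ?_ le_sup_left)
    have h0 := orbitSum_mono F M (Nat.zero_le j)
    rwa [orbitSum_zero] at h0
  have h2 : ∀ i, orbitSum F M (j + i) ≤ orbitSum F M j ⊔ Isoc.pPow 1 S := by
    intro i
    induction i with
    | zero => exact le_sup_left
    | succ i ih =>
      rw [← add_assoc, orbitSum_succ]
      refine sup_le ih (le_trans ?_ (le_trans (latImg_mono F 1 ih) ?_))
      · rw [show j + i + 1 = 1 + (j + i) by ring, latImg_add F hτ]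
        refine latImg_mono F 1 ?_
        rcases Nat.eq_zero_or_pos (j + i) with h0 | h0
        · rw [h0, latImg_zero, orbitSum_zero]
        · obtain ⟨q, hq⟩ := Nat.exists_eq_succ_of_ne_zero h0.ne'
          rw [hq, orbitSum_succ]; exact le_sup_right
      · rw [latImg_sup F hτ]
        exact sup_le ((latImg_orbitSum_le F hτ M j).trans h1) hpF
  have h3 : S ≤ orbitSum F M j := le_of_le_sup_pPow hSl.fg (by
    have := h2 (h - j)
    rwa [show j + (h - j) = h by omega] at this)
  exact ⟨orbitSum F M j, isLattice_orbitSum F hτ hM j,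
    (latImg_orbitSum_le F hτ M j).trans ((orbitSum_mono F M (by omega)).trans h3)⟩

theorem effective_of_iterate (hτ : Good τ) {M : Submodule (WittVector p k) N} (hM : M.IsLattice (FractionRing (WittVector p k))) {q : ℕ}
    (h : Isoc.latImg F (q + 1) M ≤ M) : Isoc.IsEffective F :=
  ⟨orbitSum F M q, isLattice_orbitSum F hτ hM q, by
    refine (latImg_orbitSum_le F hτ M q).trans ?_
    rw [orbitSum_succ]
    refine sup_le le_rfl (h.trans ?_)
    have h0 := orbitSum_mono F M (Nat.zero_le q)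
    rwa [orbitSum_zero] at h0⟩

theorem effective_of_slope_pos (hτ : Good τ) {lam : ℝ} (hlam : Isoc.IsFirstSlope F lam) (h0 : 0 < lam) :
    Isoc.IsEffective F := by
  obtain ⟨M, hM, o, ho, hlim⟩ := hlam
  obtain ⟨n, hn⟩ := eventually_atTop.1 (hlim.eventually (eventually_gt_nhds h0))
  refine effective_of_iterate F hτ hM (q := n) ?_
  have h1 := hn (n + 1) (Nat.le_succ n)
  rw [lt_div_iff₀ (by positivity), zero_mul] at h1
  have h2 : (0 : ℤ) ≤ o (n + 1) := by exact_mod_cast h1.le
  exact ((ho (n + 1) (by omega)).1.trans (pPow_anti h2 M)).trans (pPow_zero M).le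

theorem effective_of_slope_nonneg (hτ : Good τ) {h : ℕ} (b : Module.Basis (Fin h) (FractionRing (WittVector p k)) N) {lam : ℝ}
    (hlam : Isoc.IsFirstSlope F lam) (h0 : -1 < (h + 1 : ℕ) * lam) : Isoc.IsEffective F := by
  obtain ⟨M, hM, hle⟩ := effective_of_slope_pos (twistIter F 1 (h + 1)) (hτ.pow _)
    (isFirstSlope_twistIter F hτ hlam 1 (h + 1)) (by push_cast; push_cast at h0; linarith)
  refine effective_of_height F hτ b hM ?_
  rw [latImg_twistIter F hτ, mul_one, Nat.cast_one, mul_one, pPow_le_iff] at hle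
  exact hle

theorem exists_le_pPow_of_div_le (hτ : Good τ) {h : ℕ} (b : Module.Basis (Fin h) (FractionRing (WittVector p k)) N) {lam : ℝ}
    (hlam : Isoc.IsFirstSlope F lam) {r : ℤ} {s : ℕ} (hs : 0 < s) (hrs : (r : ℝ) / s ≤ lam) :
    ∃ M : Submodule (WittVector p k) N, M.IsLattice (FractionRing (WittVector p k)) ∧ Isoc.latImg F s M ≤ Isoc.pPow r M := by
  have hμ : 0 ≤ (s : ℝ) * lam + ((-r : ℤ) : ℝ) := by
    rw [div_le_iff₀ (by exact_mod_cast hs)] at hrs
    push_cast; linarith
  obtain ⟨M, hM, hle⟩ := effective_of_slope_nonneg (twistIter F (-r) s) (hτ.pow _) b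
    (isFirstSlope_twistIter F hτ hlam (-r) s) (by nlinarith [Nat.cast_nonneg (α := ℝ) (h + 1)])
  rw [latImg_twistIter F hτ, mul_one, Nat.cast_one, mul_one, pPow_le_iff, neg_neg] at hle
  exact ⟨M, hM, hle⟩

theorem exists_rational (hτ : Good τ) (hF : Isoc.IsIsoc F) {h : ℕ} (b : Module.Basis (Fin h) (FractionRing (WittVector p k)) N)
    {lam : ℝ} (hlam : Isoc.IsFirstSlope F lam) :
    ∃ (r : ℤ) (s : ℕ) (M : Submodule (WittVector p k) N), 0 < s ∧ s ≤ h ∧ lam = (r : ℝ) / s ∧
      M.IsLattice (FractionRing (WittVector p k)) ∧ Isoc.IsOrd M F s r := by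
  haveI := nontrivial_of_firstSlope F hlam
  have hh : 0 < h := Fin.pos_iff_nonempty.2 b.index_nonempty
  obtain ⟨r, s', hs0, hsh, habs⟩ := Real.exists_int_int_abs_mul_sub_le lam hh
  obtain ⟨s, rfl⟩ : ∃ s : ℕ, s' = s := ⟨s'.toNat, by omega⟩
  have hs : 0 < s := by omega
  set μ : ℝ := (s : ℝ) * lam + ((-r : ℤ) : ℝ) with hμ
  have hμabs : |μ| ≤ 1 / (h + 1) := by rw [hμ]; push_cast; push_cast at habs; simpa [sub_eq_add_neg] using habs
  set G := twistIter F (-r) s
  have hG := isIsoc_twistIter F hF (-r) s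
  have hτG := hτ.pow s
  have hGl : Isoc.IsFirstSlope G μ := isFirstSlope_twistIter F hτ hlam (-r) s
  have hpos : (0 : ℝ) < h + 1 := by positivity
  have hlow : -1 ≤ (h + 1 : ℕ) * μ := by
    have := (abs_le.1 hμabs).1
    push_cast
    rw [neg_le, ← sub_nonneg] at this
    nlinarith [mul_div_cancel₀ (1 : ℝ) hpos.ne']
  obtain ⟨M₁, hM₁, hle₁⟩ := effective_of_slope_nonneg (twistIter G 1 (h + 1)) (hτG.pow _) b
    (isFirstSlope_twistIter G hτG hGl 1 (h + 1)) (by
      have : (0 : ℝ) ≤ (h + 1 : ℕ) * μ + ((1 : ℤ) : ℝ) := by push_cast; push_cast at hlow; linarith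
      nlinarith [Nat.cast_nonneg (α := ℝ) (h + 1)])
  rw [latImg_twistIter G hτG, mul_one, Nat.cast_one, mul_one, pPow_le_iff] at hle₁
  obtain ⟨M, hM, hle⟩ := effective_of_height G hτG b hM₁ hle₁
  have hle' : Isoc.latImg G 1 M ≤ Isoc.pPow 0 M := by rwa [pPow_zero]
  have hμ0 : 0 ≤ μ := by simpa using slope_ge_of_le G hG hτG hGl hM one_pos hle'
  have hiter : ∀ j, Isoc.latImg G j M ≤ M := fun j => by
    have := le_iterate G hτG hle' j
    rwa [one_mul, zero_mul, pPow_zero] at this
  have hμeq : μ = 0 := by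
    by_contra hne
    have hμpos : 0 < μ := lt_of_le_of_ne hμ0 (Ne.symm hne)
    by_cases hc : Isoc.latImg G h M ≤ Isoc.pPow 1 M
    · have h1 := slope_ge_of_le G hG hτG hGl hM hh hc
      have h2 := (abs_le.1 hμabs).2
      rw [Int.cast_one] at h1
      have : (1 : ℝ) / (h + 1) < 1 / h := one_div_lt_one_div_of_lt (by exact_mod_cast hh) (by linarith)
      linarith
    obtain ⟨φ, -, hker⟩ := exists_residue_map b hM
    obtain ⟨j, hj, he⟩ := finrank_stall (fun j => Submodule.span k (φ '' {x | (x : N) ∈ Isoc.latImg G (h - j) M}))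
      (fun j hj => Submodule.span_mono (Set.image_mono fun x hx => by
        change (x : N) ∈ Isoc.latImg G (h - (j + 1)) M
        have hx' : (x : N) ∈ Isoc.latImg G (h - j) M := hx
        rw [show h - j = (h - (j + 1)) + 1 by omega, latImg_add G hτG] at hx'
        exact latImg_mono G _ hle hx'))
      (fun e => hc fun x hx => (hker ⟨x, hiter h hx⟩).1
        ((Submodule.mem_bot k).1 (e ▸ Submodule.subset_span ⟨⟨x, hiter h hx⟩, hx, rfl⟩)))
    set i := h - (j + 1) with hi
    rw [show h - j = i + 1 by omega] at he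
    have h3 : Isoc.latImg G i M ≤ Isoc.latImg G (i + 1) M ⊔ Isoc.pPow 1 M :=
      le_sup_of_map_le hker (hiter i) (hiter (i + 1)) he.le
    have h4 : ∀ l, Isoc.latImg G i M ≤ Isoc.latImg G (i + l) M ⊔ Isoc.pPow 1 M := by
      intro l
      induction l with
      | zero => exact le_sup_left
      | succ l ih =>
        refine ih.trans (sup_le ?_ le_sup_right)
        rw [add_comm i l, latImg_add G hτG]
        refine (latImg_mono G l h3).trans ?_
        rw [latImg_sup G hτG, latImg_pPow G hτG, ← latImg_add G hτG, show l + (i + 1) = i + (l + 1) by ring]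
        exact sup_le le_sup_left ((pPow_mono 1 (hiter l)).trans le_sup_right)
    have hni : ¬ Isoc.latImg G i M ≤ Isoc.pPow 1 M := fun hle₂ => hc (by
      rw [show h = (j + 1) + i by omega, latImg_add G hτG]
      refine (latImg_mono G _ hle₂).trans ?_
      rw [latImg_pPow G hτG]
      exact pPow_mono 1 (hiter _))
    obtain ⟨o, ho⟩ := exists_ord_fun G hG hτG hM
    have hlim := firstSlope_tendsto G hτG hGl hM hG fun n _ => ho n
    obtain ⟨n₀, hn₀⟩ := eventually_atTop.1 (hlim.eventually (eventually_gt_nhds hμpos))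
    have h5 := hn₀ (i + (n₀ + 1)) (by omega)
    rw [lt_div_iff₀ (by positivity), zero_mul] at h5
    have h6 : (1 : ℤ) ≤ o (i + (n₀ + 1)) := by exact_mod_cast h5
    exact hni ((h4 (n₀ + 1)).trans (sup_le ((ho _).1.trans (pPow_anti h6 M)) le_rfl))
  have hord : Isoc.IsOrd M G 1 0 := ⟨hle', fun h' => by
    have := slope_ge_of_le G hG hτG hGl hM one_pos h'
    rw [hμeq] at this
    norm_num at this⟩
  refine ⟨r, s, M, hs, by omega, ?_, hM, ?_, ?_⟩
  · rw [eq_div_iff (by positivity)]
    rw [hμ] at hμeq; push_cast at hμeq; linarith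
  · have := hord.1
    rw [latImg_twistIter_le F hτ, mul_one] at this
    simpa using this
  · intro h'
    apply hord.2
    rw [latImg_twistIter_le F hτ, mul_one]
    simpa [add_comm] using h'

end Groth.Agent.IsocLib
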