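import Groth.Agent.IsocLib.Slopes
import Mathlib.Order.SupIndep
import Mathlib.Order.CompactlyGenerated.Basic
import Mathlib.RingTheory.Noetherian.Basic

/-! # Isoclinic subspaces -/

namespace Groth.Agent.IsocLib

open scoped Pointwise

universe u v

variable {p : ℕ} [Fact p.Prime] {k : Type u} [Field k] [CharP k p] [PerfectRing k p]
variable {N : Type v} [AddCommGroup N] [Module (WittVector p k) N] [Module (FractionRing (WittVector p k)) N] [IsScalarTower (WittVector p k) (FractionRing (WittVector p k)) N]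
variable {τ : (FractionRing (WittVector p k)) →+* (FractionRing (WittVector p k))} (F : N →ₛₗ[τ] N)

/-- `P` carries a lattice on which `F` is isoclinic of slope `μ`. -/
def IsoclinicOn (P : Submodule (FractionRing (WittVector p k)) N) (μ : ℚ) : Prop :=
  ∃ M : Submodule (WittVector p k) N, M.FG ∧ Submodule.span (FractionRing (WittVector p k)) (M : Set N) = P ∧
    ∃ (r : ℤ) (s : ℕ), 0 < s ∧ (r : ℚ) / s = μ ∧ Isoc.latImg F s M = Isoc.pPow r M

theorem restrict_iterate {P : Submodule (FractionRing (WittVector p k)) N} (hP : ∀ x ∈ P, F x ∈ P) (s : ℕ) (x : P) :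
    (((⇑(F.restrict hP))^[s] x : P) : N) = (⇑F)^[s] (x : N) := by
  induction s with
  | zero => rfl
  | succ s ih => rw [Function.iterate_succ_apply', Function.iterate_succ_apply', ← ih]; rfl

theorem map_latImg_restrict {P : Submodule (FractionRing (WittVector p k)) N} (hP : ∀ x ∈ P, F x ∈ P) (s : ℕ) (M : Submodule (WittVector p k) P) :
    (Isoc.latImg (F.restrict hP) s M).map (P.subtype.restrictScalars (WittVector p k)) =
      Isoc.latImg F s (M.map (P.subtype.restrictScalars (WittVector p k))) := by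
  rw [Isoc.latImg, Isoc.latImg, Submodule.map_span, Set.image_image]
  congr 1
  rw [Submodule.map_coe, Set.image_image]
  exact Set.image_congr fun x _ => restrict_iterate F hP s x

theorem map_pPow_subtype {P : Submodule (FractionRing (WittVector p k)) N} (r : ℤ) (M : Submodule (WittVector p k) P) :
    (Isoc.pPow r M).map (P.subtype.restrictScalars (WittVector p k)) =
      Isoc.pPow r (M.map (P.subtype.restrictScalars (WittVector p k))) := by
  ext x
  rw [mem_pPow]
  constructor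
  · rintro ⟨y, hy, rfl⟩
    exact ⟨_, mem_pPow.1 hy, rfl⟩
  · rintro ⟨y, hy, hyx⟩
    refine ⟨(p : (FractionRing (WittVector p k))) ^ r • y, smul_mem_pPow hy, ?_⟩
    change (p : (FractionRing (WittVector p k))) ^ r • (y : N) = x
    rw [show (y : N) = (p : (FractionRing (WittVector p k))) ^ (-r) • x from hyx, smul_smul, ← zpow_add₀ ne_zero_p, add_neg_cancel, zpow_zero, one_smul]

theorem isIsoclinic_restrict_iff {P : Submodule (FractionRing (WittVector p k)) N} (hP : ∀ x ∈ P, F x ∈ P) (μ : ℚ) :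
    Isoc.IsIsoclinic (F.restrict hP) μ ↔ IsoclinicOn F P μ := by
  have hinj : Function.Injective (P.subtype.restrictScalars (WittVector p k)) := Subtype.val_injective
  constructor
  · rintro ⟨M, hM, r, s, hs, hμ, he⟩
    refine ⟨M.map (P.subtype.restrictScalars (WittVector p k)), hM.fg.map _, ?_, r, s, hs, hμ, ?_⟩
    · rw [Submodule.map_coe, LinearMap.coe_restrictScalars, ← Submodule.map_span, hM.span_eq_top,
        Submodule.map_top, Submodule.range_subtype]
    · rw [← map_latImg_restrict F hP, he, map_pPow_subtype]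
  · rintro ⟨M, hfg, hspan, r, s, hs, hμ, he⟩
    have hle : M ≤ LinearMap.range (P.subtype.restrictScalars (WittVector p k)) := fun x hx =>
      ⟨⟨x, hspan ▸ Submodule.subset_span hx⟩, rfl⟩
    obtain ⟨M', rfl⟩ : ∃ M' : Submodule (WittVector p k) P, M'.map (P.subtype.restrictScalars (WittVector p k)) = M :=
      ⟨M.comap (P.subtype.restrictScalars (WittVector p k)), Submodule.map_comap_eq_self hle⟩
    refine ⟨M', ⟨Submodule.fg_of_fg_map_injective _ hinj hfg, Submodule.map_injective_of_injective P.injective_subtype ?_⟩,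
      r, s, hs, hμ, Submodule.map_injective_of_injective hinj ?_⟩
    · rw [Submodule.map_top, Submodule.range_subtype, Submodule.map_span]
      rw [Submodule.map_coe, LinearMap.coe_restrictScalars] at hspan
      exact hspan
    · rw [map_latImg_restrict F hP, map_pPow_subtype]; exact he

theorem isoclinicOn_top_iff (μ : ℚ) : IsoclinicOn F ⊤ μ ↔ Isoc.IsIsoclinic F μ :=
  ⟨fun ⟨M, hfg, hspan, h⟩ => ⟨M, ⟨hfg, hspan⟩, h⟩, fun ⟨M, hM, h⟩ => ⟨M, hM.fg, hM.span_eq_top, h⟩⟩

theorem isoclinicOn_bot (μ : ℚ) : IsoclinicOn F ⊥ μ := by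
  refine ⟨⊥, Submodule.fg_bot, by simp, μ.num, μ.den, μ.pos, μ.num_div_den, ?_⟩
  refine le_antisymm ((latImg_le_iff F).2 fun m hm => ?_) ((pPow_le_iff _).2 bot_le)
  rw [(Submodule.mem_bot _).1 hm, iterate_map_zero]
  exact zero_mem _

theorem stable_iterate {P : Submodule (FractionRing (WittVector p k)) N} (hP : ∀ x ∈ P, F x ∈ P) : ∀ (n : ℕ) {x : N}, x ∈ P → (⇑F)^[n] x ∈ P
  | 0, _, hx => hx
  | n + 1, x, hx => by rw [Function.iterate_succ_apply']; exact hP _ (stable_iterate hP n hx)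

theorem bijective_restrict (hF : Isoc.IsIsoc F) (hτ : Good τ) {P : Submodule (FractionRing (WittVector p k)) N} (hP : ∀ x ∈ P, F x ∈ P) :
    Function.Bijective (F.restrict hP) := by
  haveI := hF.finite
  have hinj : Function.Injective (F.restrict hP) := fun x y h =>
    Subtype.ext (hF.bijective.1 (congrArg Subtype.val h))
  refine ⟨hinj, fun y => ?_⟩
  let b := Module.finBasis (FractionRing (WittVector p k)) P
  have li : LinearIndependent (FractionRing (WittVector p k)) (fun i => F.restrict hP (b i)) := by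
    rw [Fintype.linearIndependent_iff]
    intro g hg i
    choose g' hg' using fun i => hτ.bij.2 (g i)
    have h1 : F.restrict hP (∑ i, g' i • b i) = 0 := by
      rw [map_sum, ← hg]
      exact Finset.sum_congr rfl fun i _ => by rw [map_smulₛₗ, hg']
    have := Fintype.linearIndependent_iff.1 b.linearIndependent g' (hinj (h1.trans (map_zero _).symm)) i
    rw [← hg' i, this, map_zero]
  have hy : y ∈ Submodule.span (FractionRing (WittVector p k)) (Set.range fun i => F.restrict hP (b i)) := by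
    rw [li.span_eq_top_of_card_eq_finrank' (Fintype.card_fin _)]
    trivial
  obtain ⟨g, rfl⟩ := (Submodule.mem_span_range_iff_exists_fun (FractionRing (WittVector p k))).1 hy
  choose g' hg' using fun i => hτ.bij.2 (g i)
  exact ⟨∑ i, g' i • b i, by rw [map_sum]; exact Finset.sum_congr rfl fun i _ => by rw [map_smulₛₗ, hg']⟩

theorem isIsoc_restrict (hF : Isoc.IsIsoc F) (hτ : Good τ) {P : Submodule (FractionRing (WittVector p k)) N} (hP : ∀ x ∈ P, F x ∈ P) :
    Isoc.IsIsoc (F.restrict hP) :=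
  haveI := hF.finite
  ⟨inferInstance, bijective_restrict F hF hτ hP⟩

theorem preimage_mem (hF : Isoc.IsIsoc F) (hτ : Good τ) {P : Submodule (FractionRing (WittVector p k)) N} (hP : ∀ x ∈ P, F x ∈ P)
    {s : ℕ} {x : N} (hx : (⇑F)^[s] x ∈ P) : x ∈ P := by
  obtain ⟨y, hy⟩ := ((bijective_restrict F hF hτ hP).2.iterate s) ⟨_, hx⟩
  have := congrArg Subtype.val hy
  rw [restrict_iterate] at this
  exact hF.bijective.1.iterate s this ▸ y.2

theorem isoclinicOn_common (hτ : Good τ) {P : Submodule (FractionRing (WittVector p k)) N} {μ : ℚ} (h : IsoclinicOn F P μ) :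
    ∃ M : Submodule (WittVector p k) N, M.FG ∧ Submodule.span (FractionRing (WittVector p k)) (M : Set N) = P ∧ ∃ (r : ℤ) (s : ℕ), 0 < s ∧
      (r : ℚ) / s = μ ∧ ∀ q : ℕ, Isoc.latImg F (s * q) M = Isoc.pPow (r * q) M := by
  obtain ⟨M, h1, h2, r, s, hs, hμ, he⟩ := h
  exact ⟨M, h1, h2, r, s, hs, hμ, eq_iterate F hτ he⟩

theorem isoclinicOn_inf (hF : Isoc.IsIsoc F) (hτ : Good τ) {P Q : Submodule (FractionRing (WittVector p k)) N} {μ : ℚ}
    (hQ : ∀ x ∈ Q, F x ∈ Q) (hle : Q ≤ P) (h : IsoclinicOn F P μ) : IsoclinicOn F Q μ := by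
  obtain ⟨M, hfg, hspan, r, s, hs, hμ, he⟩ := h
  haveI := isNoetherian_of_fg_of_noetherian M hfg
  have hfg' : (M ⊓ Q.restrictScalars (WittVector p k)).FG := by
    haveI : IsNoetherian (WittVector p k) ↥(M ⊓ Q.restrictScalars (WittVector p k)) := isNoetherian_of_le inf_le_left
    exact Module.Finite.iff_fg.1 inferInstance
  refine ⟨M ⊓ Q.restrictScalars (WittVector p k), hfg', le_antisymm (Submodule.span_le.2 fun x hx => hx.2) (fun x hx => ?_),
    r, s, hs, hμ, le_antisymm ((latImg_le_iff F).2 fun m hm => mem_pPow.2 ⟨?_, ?_⟩) fun x hx => ?_⟩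
  · -- a multiple of `x` lies in `M`
    have hx' : x ∈ Submodule.span (FractionRing (WittVector p k)) (M : Set N) := hspan ▸ hle hx
    obtain ⟨r₀, hr₀⟩ : ∃ r₀ : ℤ, x ∈ Isoc.pPow r₀ M := by
      clear hx
      induction hx' using Submodule.span_induction with
      | mem y hy => exact ⟨0, by rwa [pPow_zero]⟩
      | zero => exact ⟨0, zero_mem _⟩
      | add y z _ _ hy hz =>
        obtain ⟨a, ha⟩ := hy
        obtain ⟨b, hb⟩ := hz
        exact ⟨min a b, add_mem (pPow_anti (min_le_left a b) M ha) (pPow_anti (min_le_right a b) M hb)⟩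
      | smul c y _ hy =>
        obtain ⟨a, ha⟩ := hy
        obtain ⟨n, w, hw⟩ := exists_zpow_mul c
        refine ⟨a - n, ?_⟩
        rw [mem_pPow, smul_smul, show -(a - (n : ℤ)) = -a + n by ring, zpow_add₀ ne_zero_p, mul_assoc, hw,
          mul_comm, mul_smul, ← smul_eq_algebraMap]
        exact M.smul_mem _ (mem_pPow.1 ha)
    have h1 := Submodule.smul_mem (Submodule.span (FractionRing (WittVector p k)) ((M ⊓ Q.restrictScalars (WittVector p k) : Submodule (WittVector p k) N) : Set N)) ((p : (FractionRing (WittVector p k))) ^ r₀)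
      (Submodule.subset_span ⟨mem_pPow.1 hr₀, Q.smul_mem _ hx⟩)
    rwa [smul_smul, ← zpow_add₀ ne_zero_p, add_neg_cancel, zpow_zero, one_smul] at h1
  · exact mem_pPow.1 (he ▸ mem_latImg_of_mem F hm.1)
  · exact Q.smul_mem _ (stable_iterate F hQ s hm.2)
  · have hx' := mem_pPow.1 hx
    have h1 : x ∈ Isoc.latImg F s M := he.symm ▸ mem_pPow.2 hx'.1
    obtain ⟨y, hy, rfl⟩ := (mem_latImg F hτ).1 h1
    refine mem_latImg_of_mem F ⟨hy, preimage_mem F hF hτ hQ (s := s) ?_⟩
    have h2 := Q.smul_mem ((p : (FractionRing (WittVector p k))) ^ r) hx'.2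
    rwa [smul_smul, ← zpow_add₀ ne_zero_p, add_neg_cancel, zpow_zero, one_smul] at h2

theorem common_slope {r₁ r₂ : ℤ} {s₁ s₂ : ℕ} (hs₁ : 0 < s₁) (hs₂ : 0 < s₂) :
    (r₁ * s₂ = r₂ * s₁ ↔ (r₁ : ℚ) / s₁ = (r₂ : ℚ) / s₂) ∧
      (r₁ * s₂ < r₂ * s₁ ↔ (r₁ : ℚ) / s₁ < (r₂ : ℚ) / s₂) := by
  have h1 : (0 : ℚ) < s₁ := by exact_mod_cast hs₁
  have h2 : (0 : ℚ) < s₂ := by exact_mod_cast hs₂
  rw [div_eq_div_iff h1.ne' h2.ne', div_lt_div_iff₀ h1 h2]
  constructor <;> exact ⟨fun h => by exact_mod_cast h, fun h => by exact_mod_cast h⟩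

theorem isoclinicOn_sup (hτ : Good τ) {P Q : Submodule (FractionRing (WittVector p k)) N} {μ : ℚ} (h₁ : IsoclinicOn F P μ)
    (h₂ : IsoclinicOn F Q μ) : IsoclinicOn F (P ⊔ Q) μ := by
  obtain ⟨M₁, hfg₁, hsp₁, r₁, s₁, hs₁, hμ₁, he₁⟩ := isoclinicOn_common F hτ h₁
  obtain ⟨M₂, hfg₂, hsp₂, r₂, s₂, hs₂, hμ₂, he₂⟩ := isoclinicOn_common F hτ h₂
  have hr : r₁ * s₂ = r₂ * s₁ := (common_slope hs₁ hs₂).1.2 (hμ₁.trans hμ₂.symm)
  refine ⟨M₁ ⊔ M₂, hfg₁.sup hfg₂, ?_, r₁ * s₂, s₁ * s₂, Nat.mul_pos hs₁ hs₂, ?_, ?_⟩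
  · refine le_antisymm (Submodule.span_le.2 fun x hx => ?_)
      (sup_le (hsp₁ ▸ Submodule.span_mono (le_sup_left (b := M₂))) (hsp₂ ▸ Submodule.span_mono (le_sup_right (a := M₁))))
    obtain ⟨a, ha, b, hb, rfl⟩ := Submodule.mem_sup.1 hx
    exact Submodule.add_mem_sup (hsp₁ ▸ Submodule.subset_span ha) (hsp₂ ▸ Submodule.subset_span hb)
  · rw [← hμ₁]; push_cast
    have : (s₂ : ℚ) ≠ 0 := by exact_mod_cast hs₂.ne'
    exact mul_div_mul_right _ _ this
  · rw [latImg_sup F hτ, he₁ s₂, mul_comm s₁ s₂, he₂ s₁, ← hr, pPow_sup]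

theorem slopePart_eq_sSup (μ : ℚ) :
    Isoc.slopePart F μ = sSup {P : Submodule (FractionRing (WittVector p k)) N | (∀ x ∈ P, F x ∈ P) ∧ IsoclinicOn F P μ} := by
  unfold Isoc.slopePart
  congr 1
  ext P
  exact ⟨fun ⟨hP, h⟩ => ⟨hP, (isIsoclinic_restrict_iff F hP μ).1 h⟩,
    fun ⟨hP, h⟩ => ⟨hP, (isIsoclinic_restrict_iff F hP μ).2 h⟩⟩

theorem slopePart_spec (hF : Isoc.IsIsoc F) (hτ : Good τ) (μ : ℚ) :
    (∀ x ∈ Isoc.slopePart F μ, F x ∈ Isoc.slopePart F μ) ∧ IsoclinicOn F (Isoc.slopePart F μ) μ := by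
  haveI := hF.finite
  set S := {P : Submodule (FractionRing (WittVector p k)) N | (∀ x ∈ P, F x ∈ P) ∧ IsoclinicOn F P μ} with hS
  have hbot : (⊥ : Submodule (FractionRing (WittVector p k)) N) ∈ S :=
    ⟨fun x hx => by rw [(Submodule.mem_bot _).1 hx, map_zero]; exact zero_mem _, isoclinicOn_bot F μ⟩
  obtain ⟨P, hPS, hmax⟩ := set_has_maximal_iff_noetherian.2 (inferInstance : IsNoetherian (FractionRing (WittVector p k)) N) S ⟨⊥, hbot⟩
  have hP : Isoc.slopePart F μ = P := by
    rw [slopePart_eq_sSup]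
    refine le_antisymm (sSup_le fun Q hQ => ?_) (le_sSup hPS)
    by_contra hne
    refine hmax (P ⊔ Q) ⟨fun x hx => ?_, isoclinicOn_sup F hτ hPS.2 hQ.2⟩ (lt_of_le_of_ne le_sup_left (fun e => hne (by rw [e]; exact le_sup_right)))
    obtain ⟨a, ha, b, hb, rfl⟩ := Submodule.mem_sup.1 hx
    rw [map_add]
    exact Submodule.add_mem_sup (hPS.1 a ha) (hQ.1 b hb)
  rw [hP]
  exact hPS

theorem hom_zero {N' : Type*} [AddCommGroup N'] [Module (WittVector p k) N'] [Module (FractionRing (WittVector p k)) N'] [IsScalarTower (WittVector p k) (FractionRing (WittVector p k)) N']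
    (F' : N' →ₛₗ[τ] N') (hF' : Function.Injective F') (hτ : Good τ) {M : Submodule (WittVector p k) N} {M' : Submodule (WittVector p k) N'}
    (hM : M.FG) (hM' : M'.IsLattice (FractionRing (WittVector p k))) {S : ℕ} {A B : ℤ} (hAB : A ≠ B)
    (he : ∀ q : ℕ, Isoc.latImg F (S * q) M = Isoc.pPow (A * q) M)
    (he' : ∀ q : ℕ, Isoc.latImg F' (S * q) M' = Isoc.pPow (B * q) M')
    (f : N →ₗ[(FractionRing (WittVector p k))] N') (hf : ∀ x, f (F x) = F' (f x)) {x : N} (hx : x ∈ M) : f x = 0 := by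
  have hf' : ∀ n y, f ((⇑F)^[n] y) = (⇑F')^[n] (f y) := fun n => by
    induction n with
    | zero => intro y; rfl
    | succ n ih => intro y; rw [Function.iterate_succ_apply', Function.iterate_succ_apply', hf, ih]
  obtain ⟨c, hc⟩ := exists_le_pPow hM' (hM.map (f.restrictScalars (WittVector p k)))
  have hc' : ∀ y ∈ M, f y ∈ Isoc.pPow c M' := fun y hy => hc ⟨y, hy, rfl⟩
  have hB : ∀ q : ℕ, f x ∈ Isoc.pPow (c + (B - A) * q) M' := by
    intro q
    have h1 : x ∈ Isoc.pPow (-(A * q)) (Isoc.latImg F (S * q) M) := by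
      rw [he, pPow_pPow, neg_add_cancel, pPow_zero]; exact hx
    rw [mem_pPow, neg_neg, mem_latImg F hτ] at h1
    obtain ⟨y, hy, hyx⟩ := h1
    have h2 : (⇑F')^[S * q] (f y) ∈ Isoc.pPow (c + B * q) M' := by
      rw [← pPow_pPow, ← he', ← latImg_pPow F' hτ]
      exact mem_latImg_of_mem F' (hc' y hy)
    rw [← hf', hyx, map_smul] at h2
    rw [mem_pPow] at h2 ⊢
    rwa [smul_smul, ← zpow_add₀ ne_zero_p, show -(c + B * (q : ℤ)) + A * q = -(c + (B - A) * q) by ring] at h2
  have hA : ∀ q : ℕ, f x ∈ Isoc.pPow (c + (A - B) * q) M' := by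
    intro q
    have h1 : (⇑F')^[S * q] (f x) ∈ Isoc.pPow (c + A * q) M' := by
      rw [← hf']
      have hm : (⇑F)^[S * q] x ∈ Isoc.pPow (A * q) M := he q ▸ mem_latImg_of_mem F hx
      rw [mem_pPow, neg_add, zpow_add₀ ne_zero_p, mul_smul, ← map_smul]
      exact mem_pPow.1 (hc' _ (mem_pPow.1 hm))
    rw [show c + A * q = (c + (A - B) * q) + B * q by ring, ← pPow_pPow, ← he', ← latImg_pPow F' hτ,
      mem_latImg F' hτ] at h1
    obtain ⟨z, hz, hzx⟩ := h1
    exact hF'.iterate _ hzx ▸ hz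
  refine eq_zero_of_forall_mem hM'.fg fun t => ?_
  have hq : (0 : ℤ) ≤ ((t - c).toNat : ℤ) := Int.natCast_nonneg _
  have hqt : t - c ≤ ((t - c).toNat : ℤ) := Int.self_le_toNat _
  rcases lt_or_gt_of_ne hAB with h | h
  · exact ⟨_, by nlinarith, hB (t - c).toNat⟩
  · exact ⟨_, by nlinarith, hA (t - c).toNat⟩

theorem disjoint_min (hF : Isoc.IsIsoc F) (hτ : Good τ) (s : Finset ℚ) (μ₀ : ℚ) (hlt : ∀ μ ∈ s, μ₀ < μ) :
    Disjoint (Isoc.slopePart F μ₀) (s.sup fun μ => Isoc.slopePart F μ) := by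
  haveI := hF.finite
  obtain ⟨-, hiso⟩ := slopePart_spec F hF hτ μ₀
  obtain ⟨M₀, hfg₀, hsp₀, A, S, hS, hμ₀, he₀⟩ := isoclinicOn_common F hτ hiso
  -- everything in the sum grows faster
  have hgrow : ∀ x ∈ s.sup (fun μ => Isoc.slopePart F μ), ∀ (M : Submodule (WittVector p k) N), M.IsLattice (FractionRing (WittVector p k)) →
      ∀ t : ℤ, ∃ q₀ : ℕ, ∀ q, q₀ ≤ q → (⇑F)^[S * q] x ∈ Isoc.pPow (A * q + t) M := by
    classical
    induction s using Finset.induction_on with
    | empty =>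
      intro x hx M _ t
      rw [Finset.sup_empty, Submodule.mem_bot] at hx
      exact ⟨0, fun q _ => by rw [hx, iterate_map_zero]; exact zero_mem _⟩
    | insert μ s _ ih =>
      intro x hx M hM t
      rw [Finset.sup_insert] at hx
      obtain ⟨y, hy, z, hz, rfl⟩ := Submodule.mem_sup.1 hx
      obtain ⟨q₀, hq₀⟩ := ih (fun μ' h => hlt μ' (Finset.mem_insert_of_mem h)) z hz M hM t
      obtain ⟨-, hiso'⟩ := slopePart_spec F hF hτ μ
      obtain ⟨M', hfg', hsp', B, T, hT, hμ, he'⟩ := isoclinicOn_common F hτ hiso'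
      have hBA : A * T < B * S := (common_slope hS hT).2.2 (hμ₀.trans_lt ((hlt μ (Finset.mem_insert_self μ s)).trans_eq hμ.symm))
      obtain ⟨c, hc⟩ := exists_le_pPow hM hfg'
      obtain ⟨e, he⟩ : ∃ e : ℤ, ∀ i, i < T → Isoc.latImg F (S * i) M ≤ Isoc.pPow e M := by
        choose g hg using fun i => exists_le_pPow hM (fg_latImg F hτ (S * i) hM.fg)
        refine ⟨∑ i ∈ Finset.range T, min (g i) 0, fun i hi => (hg i).trans (pPow_anti ?_ M)⟩
        rw [← Finset.add_sum_erase _ _ (Finset.mem_range.2 hi)]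
        have : ∑ j ∈ (Finset.range T).erase i, min (g j) 0 ≤ 0 := Finset.sum_nonpos fun j _ => min_le_right _ _
        have := min_le_left (g i) 0
        omega
      obtain ⟨a, ha⟩ : ∃ a : ℤ, y ∈ Isoc.pPow a M' := by
        have hy' : y ∈ Submodule.span (FractionRing (WittVector p k)) (M' : Set N) := hsp' ▸ hy
        clear hy hx
        induction hy' using Submodule.span_induction with
        | mem y hy => exact ⟨0, by rwa [pPow_zero]⟩
        | zero => exact ⟨0, zero_mem _⟩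
        | add y z _ _ hy hz =>
          obtain ⟨a, ha⟩ := hy
          obtain ⟨b, hb⟩ := hz
          exact ⟨min a b, add_mem (pPow_anti (min_le_left a b) _ ha) (pPow_anti (min_le_right a b) _ hb)⟩
        | smul c y _ hy =>
          obtain ⟨a, ha⟩ := hy
          obtain ⟨n, w, hw⟩ := exists_zpow_mul c
          refine ⟨a - n, ?_⟩
          rw [mem_pPow, smul_smul, show -(a - (n : ℤ)) = -a + n by ring, zpow_add₀ ne_zero_p, mul_assoc, hw,
            mul_comm, mul_smul, ← smul_eq_algebraMap]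
          exact M'.smul_mem _ (mem_pPow.1 ha)
      have hgy : ∀ (l i : ℕ), i < T → (⇑F)^[S * (T * l + i)] y ∈ Isoc.pPow (B * (S * l : ℕ) + a + c + e) M := by
        intro l i hi
        rw [show S * (T * l + i) = S * i + T * (S * l) by ring, Function.iterate_add_apply]
        have h1 : (⇑F)^[T * (S * l)] y ∈ Isoc.pPow (B * (S * l : ℕ) + a + c) M := by
          have h2 : (⇑F)^[T * (S * l)] y ∈ Isoc.latImg F (T * (S * l)) (Isoc.pPow a M') := mem_latImg_of_mem F ha
          rw [latImg_pPow F hτ, he', pPow_pPow, add_comm] at h2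
          rw [← pPow_pPow]
          exact pPow_mono _ hc h2
        have h3 := latImg_mono F (S * i) (le_refl (Isoc.pPow (B * (S * l : ℕ) + a + c) M)) (mem_latImg_of_mem F h1)
        rw [latImg_pPow F hτ] at h3
        rw [← pPow_pPow]
        exact pPow_mono _ (he i hi) h3
      -- eventually `A q + t` is smaller
      obtain ⟨l₀, hl₀⟩ : ∃ l₀ : ℕ, ∀ l : ℕ, l₀ ≤ l → ∀ i : ℕ, i < T → A * (T * l + i : ℕ) + t ≤ B * (S * l : ℕ) + a + c + e := by
        refine ⟨(|A| * T + t - a - c - e).toNat, fun l hl i hi => ?_⟩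
        have h0 : |A| * T + t - a - c - e ≤ (l : ℤ) := (Int.self_le_toNat _).trans (by exact_mod_cast hl)
        have h4 : A * i ≤ |A| * T := (mul_le_mul_of_nonneg_right (le_abs_self A) (Int.natCast_nonneg i)).trans
          (mul_le_mul_of_nonneg_left (by exact_mod_cast hi.le) (abs_nonneg A))
        push_cast
        nlinarith [Int.natCast_nonneg l]
      refine ⟨max q₀ (T * (l₀ + 1)), fun q hq => ?_⟩
      rw [iterate_map_add]
      refine add_mem ?_ (hq₀ q (le_trans (le_max_left _ _) hq))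
      have hl : l₀ ≤ q / T := by
        rw [Nat.le_div_iff_mul_le hT]
        have := le_trans (le_max_right _ _) hq
        nlinarith
      have h5 := pPow_anti (hl₀ (q / T) hl (q % T) (Nat.mod_lt _ hT)) M (hgy (q / T) (q % T) (Nat.mod_lt _ hT))
      rwa [Nat.div_add_mod] at h5
  rw [Submodule.disjoint_def]
  intro x hx₀ hx
  -- extend `M₀` to a lattice
  obtain ⟨Mf, hMf⟩ : ∃ M : Submodule (WittVector p k) N, M.IsLattice (FractionRing (WittVector p k)) := by
    let b := Module.finBasis (FractionRing (WittVector p k)) N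
    exact ⟨Submodule.span (WittVector p k) (Set.range b), ⟨Submodule.fg_span (Set.finite_range _), by
      rw [Submodule.span_span_of_tower, b.span_eq]⟩⟩
  -- intersect with the part of slope `μ₀`
  have hfgI : (Mf ⊓ (Isoc.slopePart F μ₀).restrictScalars (WittVector p k)).FG := by
    haveI := isNoetherian_of_fg_of_noetherian Mf hMf.fg
    haveI : IsNoetherian (WittVector p k) ↥(Mf ⊓ (Isoc.slopePart F μ₀).restrictScalars (WittVector p k)) := isNoetherian_of_le inf_le_left
    exact Module.Finite.iff_fg.1 inferInstance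
  have hcI : ∃ c : ℤ, Mf ⊓ (Isoc.slopePart F μ₀).restrictScalars (WittVector p k) ≤ Isoc.pPow c M₀ := by
    classical
    obtain ⟨gen, hgen⟩ := hfgI
    have hmem : ∀ y ∈ Submodule.span (FractionRing (WittVector p k)) (M₀ : Set N), ∃ c : ℤ, y ∈ Isoc.pPow c M₀ := by
      intro y hy
      induction hy using Submodule.span_induction with
      | mem y hy => exact ⟨0, by rwa [pPow_zero]⟩
      | zero => exact ⟨0, zero_mem _⟩
      | add y z _ _ hy hz =>
        obtain ⟨a, ha⟩ := hy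
        obtain ⟨b, hb⟩ := hz
        exact ⟨min a b, add_mem (pPow_anti (min_le_left a b) _ ha) (pPow_anti (min_le_right a b) _ hb)⟩
      | smul c y _ hy =>
        obtain ⟨a, ha⟩ := hy
        obtain ⟨n, w, hw⟩ := exists_zpow_mul c
        refine ⟨a - n, ?_⟩
        rw [mem_pPow, smul_smul, show -(a - (n : ℤ)) = -a + n by ring, zpow_add₀ ne_zero_p, mul_assoc, hw,
          mul_comm, mul_smul, ← smul_eq_algebraMap]
        exact M₀.smul_mem _ (mem_pPow.1 ha)
    choose! g hg using fun y (hy : y ∈ gen) => hmem y (hsp₀ ▸ (hgen ▸ Submodule.subset_span hy : y ∈ Mf ⊓ (Isoc.slopePart F μ₀).restrictScalars (WittVector p k)).2)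
    refine ⟨∑ y ∈ gen, min (g y) 0, ?_⟩
    rw [← hgen, Submodule.span_le]
    intro y hy
    refine pPow_anti ?_ M₀ (hg y hy)
    rw [← Finset.add_sum_erase _ _ hy]
    have : ∑ j ∈ gen.erase y, min (g j) 0 ≤ 0 := Finset.sum_nonpos fun j _ => min_le_right _ _
    have := min_le_left (g y) 0
    omega
  obtain ⟨c, hc⟩ := hcI
  refine eq_zero_of_forall_mem hfg₀ fun t => ?_
  obtain ⟨q₀, hq₀⟩ := hgrow x hx Mf hMf (t - c)
  have h1 : (⇑F)^[S * q₀] x ∈ Isoc.pPow (A * q₀ + (t - c) + c) M₀ := by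
    rw [← pPow_pPow]
    refine pPow_mono _ hc (mem_pPow.2 ⟨mem_pPow.1 (hq₀ q₀ le_rfl), ?_⟩)
    exact Submodule.smul_mem _ _ (stable_iterate F (slopePart_spec F hF hτ μ₀).1 _ hx₀)
  rw [show A * (q₀ : ℤ) + (t - c) + c = t + A * q₀ by ring, ← pPow_pPow, ← he₀, ← latImg_pPow F hτ,
    mem_latImg F hτ] at h1
  obtain ⟨z, hz, hzx⟩ := h1
  exact ⟨t, le_rfl, hF.bijective.1.iterate _ hzx ▸ hz⟩

end Groth.Agent.IsocLib
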