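import Groth.Agent.IsocLib.UnitRoot
import Groth.Agent.IsocLib.ResFrob
import Groth.Agent.S17139
import Groth.Agent.S17153
import Mathlib.LinearAlgebra.Dimension.Constructions
import Mathlib.LinearAlgebra.Pi
import Mathlib.LinearAlgebra.Finsupp.LinearCombination
import Mathlib.Tactic.FieldSimp

/-! # The classification over an algebraically closed field -/

namespace Groth.Agent.IsocLib

open scoped Pointwise

universe u v

variable {p : ℕ} [Fact p.Prime] {k : Type u} [Field k] [CharP k p] [PerfectRing k p]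
variable {N : Type v} [AddCommGroup N] [Module (WittVector p k) N] [Module (FractionRing (WittVector p k)) N] [IsScalarTower (WittVector p k) (FractionRing (WittVector p k)) N]
variable {τ : (FractionRing (WittVector p k)) →+* (FractionRing (WittVector p k))} (F : N →ₛₗ[τ] N)

/-- A vector generating a copy of the standard isocrystal of slope `d / h`. -/
def IsStd (v : N) (d : ℤ) (h : ℕ) : Prop :=
  0 < h ∧ Int.gcd d h = 1 ∧ (⇑F)^[h] v = (p : (FractionRing (WittVector p k))) ^ d • v

/-- The map from the standard isocrystal. -/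
noncomputable def stdMap (v : N) (h : ℕ) : (Fin h → (FractionRing (WittVector p k))) →ₗ[(FractionRing (WittVector p k))] N :=
  Fintype.linearCombination (FractionRing (WittVector p k)) fun i : Fin h => (⇑F)^[i.val] v

theorem stdMap_comm {v : N} {d : ℤ} {h : ℕ} (hv : IsStd F v d h) (x : Fin h → (FractionRing (WittVector p k))) :
    stdMap F v h (Isoc.stdIsoc τ d h x) = F (stdMap F v h x) := by
  obtain ⟨hh, -, hv⟩ := hv
  obtain ⟨n, rfl⟩ : ∃ n, h = n + 1 := ⟨h - 1, by omega⟩
  simp only [stdMap, Fintype.linearCombination_apply, map_sum, map_smulₛₗ, RingHom.id_apply]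
  refine (Equiv.sum_comp (finRotate (n + 1)) (fun i : Fin (n + 1) => Isoc.stdIsoc τ d (n + 1) x i • (⇑F)^[i.val] v)).symm.trans ?_
  refine Finset.sum_congr rfl fun i _ => ?_
  rw [Isoc.stdIsoc_apply, Equiv.symm_apply_apply, ← Function.iterate_succ_apply' (⇑F)]
  rcases i with ⟨i, hi⟩
  rcases Nat.lt_or_ge i n with hlt | hge
  · rw [finRotate_of_lt hlt, if_neg (Nat.succ_ne_zero i), one_mul]
  · obtain rfl : i = n := by omega
    rw [finRotate_last', if_pos rfl, hv, mul_comm, mul_smul]
    rfl

theorem stdMap_single {v : N} {h : ℕ} (hh : 0 < h) : stdMap F v h (Pi.single ⟨0, hh⟩ 1) = v := by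
  simp [stdMap, Fintype.linearCombination_apply, Pi.single_apply]

theorem range_stdMap_stable {v : N} {d : ℤ} {h : ℕ} (hv : IsStd F v d h) :
    ∀ x ∈ LinearMap.range (stdMap F v h), F x ∈ LinearMap.range (stdMap F v h) := by
  rintro _ ⟨x, rfl⟩
  exact ⟨_, stdMap_comm F hv x⟩

theorem range_stdMap_le_slopePart (hτ : Good τ) {v : N} {d : ℤ} {h : ℕ} (hv : IsStd F v d h) :
    LinearMap.range (stdMap F v h) ≤ Isoc.slopePart F ((d : ℚ) / h) := by
  rw [slopePart_eq_sSup]
  refine le_sSup ⟨range_stdMap_stable F hv,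
    Submodule.span (WittVector p k) (Set.range fun i : Fin h => (⇑F)^[i.val] v), Submodule.fg_span (Set.finite_range _), ?_,
    d, h, hv.1, rfl, ?_⟩
  · rw [Submodule.span_span_of_tower, stdMap, Fintype.range_linearCombination]
  · have hb : ∀ i : Fin h, (⇑F)^[h] ((⇑F)^[i.val] v) = (p : (FractionRing (WittVector p k))) ^ d • (⇑F)^[i.val] v := fun i => by
      rw [← Function.iterate_add_apply, add_comm, Function.iterate_add_apply, hv.2.2, iterate_zpow_smul]
    refine le_antisymm ((latImg_le_iff F).2 fun m hm => ?_) ((pPow_le_iff d).2 (Submodule.span_le.2 ?_))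
    · induction hm using Submodule.span_induction with
      | mem y hy => obtain ⟨i, rfl⟩ := hy; rw [hb]; exact smul_mem_pPow (Submodule.subset_span ⟨i, rfl⟩)
      | zero => rw [iterate_map_zero]; exact zero_mem _
      | add y z _ _ hy hz => rw [iterate_map_add]; exact add_mem hy hz
      | smul w y _ hy =>
        obtain ⟨w', hw'⟩ := (hτ.pow h).intW w
        rw [smul_eq_algebraMap w, iterate_smul, hw', ← smul_eq_algebraMap]
        exact Submodule.smul_mem _ _ hy
    · rintro _ ⟨i, rfl⟩
      rw [SetLike.mem_coe, mem_pPow, neg_neg, ← hb]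
      exact mem_latImg_of_mem F (Submodule.subset_span ⟨i, rfl⟩)

variable {a : ℤ}

theorem exists_lattice_slope [Nontrivial N] (G : N →ₛₗ[Isoc.frob p k a] N) (hG : Isoc.IsIsoc G) {μ : ℚ}
    (hμ : Isoc.IsIsoclinic G μ) :
    ∃ M : Submodule (WittVector p k) N, M.IsLattice (FractionRing (WittVector p k)) ∧ Isoc.latImg G μ.den M = Isoc.pPow μ.num M := by
  haveI := hG.finite
  have hτ := good_frob (p := p) (k := k) a
  obtain ⟨M₀, hM₀, r, s, hs, hrs, he⟩ := hμ
  let b := Module.finBasis (FractionRing (WittVector p k)) N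
  obtain ⟨D, hD⟩ := ordP_exists (detCoeff_ne_zero hτ b G hG.bijective.1)
  obtain ⟨hfs, hrD⟩ := S17139.result p k a N G hG _ b D hD M₀ hM₀ r s hs he
  have hq : (μ.num : ℚ) / μ.den = (r : ℚ) / s := by rw [μ.num_div_den, hrs]
  have hZ : μ.num * (s : ℤ) = r * (μ.den : ℤ) := (common_slope μ.pos hs).1.2 hq
  have hR : (μ.num : ℝ) / (μ.den : ℕ) ≤ (r : ℝ) / s := le_of_eq (by
    rw [div_eq_div_iff (by exact_mod_cast μ.den_nz) (by exact_mod_cast hs.ne')]
    exact_mod_cast hZ)
  obtain ⟨M, hM, hle⟩ := exists_le_pPow_of_div_le G hτ b hfs μ.pos hR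
  refine ⟨M, hM, eq_of_det_eq hτ G b hD hM hle (mul_left_cancel₀ (Int.natCast_ne_zero.2 hs.ne') ?_)⟩
  linear_combination (Module.finrank (FractionRing (WittVector p k)) N : ℤ) * hZ + (μ.den : ℤ) * hrD

variable [IsAlgClosed k]

theorem span_isStd_eq_top (ha : a ≠ 0) (G : N →ₛₗ[Isoc.frob p k a] N) (hG : Isoc.IsIsoc G) :
    Submodule.span (FractionRing (WittVector p k)) {v : N | ∃ d h, IsStd G v d h} = ⊤ := by
  haveI := hG.finite
  have hτ := good_frob (p := p) (k := k) a
  rw [eq_top_iff, ← iSup_slopePart G hG hτ]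
  refine iSup_le fun μ => ?_
  obtain ⟨hP, hiso⟩ := slopePart_spec G hG hτ μ
  generalize hPdef : Isoc.slopePart G μ = P at hP hiso
  rcases subsingleton_or_nontrivial P with hs | hs
  · intro x hx
    rw [show x = 0 from congrArg Subtype.val (Subsingleton.elim (⟨x, hx⟩ : P) 0)]
    exact zero_mem _
  have hFP := isIsoc_restrict G hG hτ hP
  obtain ⟨M, hM, he⟩ := exists_lattice_slope (G.restrict hP) hFP ((isIsoclinic_restrict_iff G hP μ).2 hiso)
  have hGM : Isoc.latImg (twistIter (G.restrict hP) (-μ.num) μ.den) 1 M = M := by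
    rw [latImg_twistIter _ hτ, mul_one, Nat.cast_one, mul_one, he, pPow_pPow, neg_add_cancel, pPow_zero]
  obtain ⟨σ, -, h2, h3, hres⟩ := exists_resFrob (p := p) (k := k) ha μ.pos
  have hspan := span_fixed_eq_top (twistIter (G.restrict hP) (-μ.num) μ.den) (hτ.pow μ.den) σ hres h2 h3
    (Module.finBasis (FractionRing (WittVector p k)) P) hM hGM
  intro x hx
  have hx' : x ∈ (Submodule.span (FractionRing (WittVector p k)) {v : P | twistIter (G.restrict hP) (-μ.num) μ.den v = v}).map P.subtype := by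
    rw [hspan, Submodule.map_top, Submodule.range_subtype]; exact hx
  rw [Submodule.map_span] at hx'
  refine Submodule.span_mono ?_ hx'
  rintro _ ⟨v, hv, rfl⟩
  refine ⟨μ.num, μ.den, μ.pos, μ.reduced, ?_⟩
  have h1 : (p : (FractionRing (WittVector p k))) ^ (-μ.num) • (⇑(G.restrict hP))^[μ.den] v = v := hv
  have h4 := congrArg (fun y : P => (p : (FractionRing (WittVector p k))) ^ μ.num • (y : N)) h1
  simp only [Submodule.coe_smul, restrict_iterate, smul_smul, ← zpow_add₀ (ne_zero_p (p := p) (k := k)), add_neg_cancel, zpow_zero, one_smul] at h4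
  exact h4

theorem exists_step (ha : a ≠ 0) (G : N →ₛₗ[Isoc.frob p k a] N) (hG : Isoc.IsIsoc G)
    (P : Submodule (FractionRing (WittVector p k)) N) (hP : ∀ x ∈ P, G x ∈ P) (hne : P ≠ ⊤) :
    ∃ (v : N) (d : ℤ) (h : ℕ), IsStd G v d h ∧ Function.Injective (stdMap G v h) ∧
      Disjoint P (LinearMap.range (stdMap G v h)) ∧ P < P ⊔ LinearMap.range (stdMap G v h) := by
  obtain ⟨v, ⟨d, h, hv⟩, hvP⟩ : ∃ v, (∃ d h, IsStd G v d h) ∧ v ∉ P := by
    by_contra hcon
    push Not at hcon
    exact hne (eq_top_iff.2 ((span_isStd_eq_top ha G hG).symm.le.trans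
      (Submodule.span_le.2 hcon)))
  have hmem : v ∈ LinearMap.range (stdMap G v h) := ⟨_, stdMap_single G hv.1⟩
  have hpre : ∀ R : Submodule (FractionRing (WittVector p k)) N, (∀ x ∈ R, G x ∈ R) → v ∉ R → R.comap (stdMap G v h) = ⊥ := by
    intro R hR hvR
    refine (S17153.result p k a d h hv.1 hv.2.1 (R.comap (stdMap G v h)) fun x hx => ?_).resolve_right fun htop => hvR ?_
    · rw [Submodule.mem_comap, stdMap_comm G hv]; exact hR _ hx
    · rw [← stdMap_single G (v := v) hv.1, ← Submodule.mem_comap, htop]; trivial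
  have hv0 : v ∉ (⊥ : Submodule (FractionRing (WittVector p k)) N) := fun h0 => hvP (bot_le (a := P) h0)
  refine ⟨v, d, h, hv, LinearMap.ker_eq_bot.1 (hpre ⊥ (fun x hx => by
    rw [(Submodule.mem_bot _).1 hx, map_zero]; exact zero_mem _) hv0), Submodule.disjoint_def.2 ?_,
    lt_of_le_of_ne le_sup_left fun he => hvP ?_⟩
  · rintro _ hxP ⟨x, rfl⟩
    rw [(Submodule.mem_bot _).1 ((hpre P hP hvP) ▸ hxP : x ∈ (⊥ : Submodule (FractionRing (WittVector p k)) _)), map_zero]
  · rw [he]; exact Submodule.mem_sup_right hmem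

/-- A complement of a stable subspace by standard isocrystals. -/
theorem exists_std_complement (ha : a ≠ 0) (G : N →ₛₗ[Isoc.frob p k a] N) (hG : Isoc.IsIsoc G)
    (P : Submodule (FractionRing (WittVector p k)) N) (hP : ∀ x ∈ P, G x ∈ P) :
    ∃ (t : ℕ) (d : Fin t → ℤ) (h : Fin t → ℕ)
      (f : ((i : Fin t) → (Fin (h i) → (FractionRing (WittVector p k)))) →ₗ[(FractionRing (WittVector p k))] N),
      (∀ i, 0 < h i ∧ Int.gcd (d i) (h i) = 1) ∧
      (∀ x, f (fun i => Isoc.stdIsoc (Isoc.frob p k a) (d i) (h i) (x i)) = G (f x)) ∧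
      Function.Injective f ∧ IsCompl P (LinearMap.range f) ∧
      ∀ i z, f (Pi.single i z) ∈ Isoc.slopePart G ((d i : ℚ) / h i) := by
  haveI := hG.finite
  induction P using WellFoundedGT.induction with
  | ind P ih =>
    by_cases hne : P = ⊤
    · refine ⟨0, Fin.elim0, Fin.elim0, 0, fun i => i.elim0, fun x => (map_zero G).symm,
        fun x y _ => funext fun i => i.elim0, ?_, fun i => i.elim0⟩
      rw [LinearMap.range_zero, hne]
      exact isCompl_top_bot
    obtain ⟨v, d₀, h₀, hv, hinj, hdis, hlt⟩ := exists_step ha G hG P hP hne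
    obtain ⟨t, d, h, f, hdh, hf, hfi, hcompl, hfs⟩ := ih _ hlt fun x hx => by
      obtain ⟨y, hy, z, hz, rfl⟩ := Submodule.mem_sup.1 hx
      rw [map_add]
      exact Submodule.add_mem_sup (hP y hy) (range_stdMap_stable G hv z hz)
    let T : ((i : Fin (t + 1)) → (Fin ((Fin.cons h₀ h : Fin (t + 1) → ℕ) i) → (FractionRing (WittVector p k)))) →ₗ[(FractionRing (WittVector p k))]
        ((i : Fin t) → (Fin (h i) → (FractionRing (WittVector p k)))) :=
      { toFun := fun x (i : Fin t) => x i.succ, map_add' := fun _ _ => rfl, map_smul' := fun _ _ => rfl }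
    let H : ((i : Fin (t + 1)) → (Fin ((Fin.cons h₀ h : Fin (t + 1) → ℕ) i) → (FractionRing (WittVector p k)))) →ₗ[(FractionRing (WittVector p k))]
        (Fin h₀ → (FractionRing (WittVector p k))) :=
      { toFun := fun x => x 0, map_add' := fun _ _ => rfl, map_smul' := fun _ _ => rfl }
    refine ⟨t + 1, Fin.cons d₀ d, Fin.cons h₀ h, (stdMap G v h₀) ∘ₗ H + f ∘ₗ T, Fin.cases ⟨hv.1, hv.2.1⟩ hdh,
      fun x => ?_, ?_, ?_, ?_⟩
    · change stdMap G v h₀ (Isoc.stdIsoc _ d₀ h₀ (x 0)) + f (fun i => Isoc.stdIsoc _ (d i) (h i) (x i.succ)) =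
        G (stdMap G v h₀ (x 0) + f (fun i => x i.succ))
      rw [map_add, stdMap_comm G hv, hf fun i => x i.succ]
    · refine (injective_iff_map_eq_zero _).2 fun x (hx : stdMap G v h₀ (x 0) + f (fun i => x i.succ) = 0) => ?_
      have h1 : stdMap G v h₀ (x 0) = f (-fun (i : Fin t) => x i.succ) :=
        (eq_neg_of_add_eq_zero_left hx).trans (map_neg f _).symm
      have h2 : stdMap G v h₀ (x 0) = 0 := Submodule.disjoint_def.1 hcompl.disjoint _
        (Submodule.mem_sup_right ⟨_, rfl⟩) ⟨_, h1.symm⟩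
      rw [h2, zero_add] at hx
      refine funext (Fin.cases ?_ fun i => ?_)
      · exact hinj (h2.trans (map_zero _).symm)
      · exact congrFun (hfi (hx.trans (map_zero f).symm)) i
    · have hr : LinearMap.range (stdMap G v h₀ ∘ₗ H + f ∘ₗ T) = LinearMap.range (stdMap G v h₀) ⊔ LinearMap.range f := by
        refine le_antisymm ?_ (sup_le ?_ ?_)
        · rintro _ ⟨x, rfl⟩
          exact Submodule.add_mem_sup ⟨_, rfl⟩ ⟨_, rfl⟩
        · rintro _ ⟨y, rfl⟩
          refine ⟨Fin.cases y fun i => 0, ?_⟩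
          change stdMap G v h₀ y + f 0 = _
          rw [map_zero, add_zero]
        · rintro _ ⟨y, rfl⟩
          refine ⟨Fin.cases 0 y, ?_⟩
          change stdMap G v h₀ 0 + f y = _
          rw [map_zero, zero_add]
      rw [hr]
      exact ⟨hdis.disjoint_sup_right_of_disjoint_sup_left hcompl.disjoint,
        codisjoint_iff.2 (by rw [← sup_assoc]; exact hcompl.sup_eq_top)⟩
    · refine Fin.cases (fun z => ?_) fun i z => ?_
      · change stdMap G v h₀ (H (Pi.single 0 z)) + f (T (Pi.single 0 z)) ∈ Isoc.slopePart G ((d₀ : ℚ) / h₀)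
        rw [show T (Pi.single 0 z) = 0 from funext fun j => Pi.single_eq_of_ne (M := fun i => Fin ((Fin.cons h₀ h : Fin (t + 1) → ℕ) i) → FractionRing (WittVector p k)) (Fin.succ_ne_zero j) z,
          show H (Pi.single 0 z) = z from Pi.single_eq_same (M := fun i => Fin ((Fin.cons h₀ h : Fin (t + 1) → ℕ) i) → FractionRing (WittVector p k)) 0 z]
        exact add_mem (range_stdMap_le_slopePart G (good_frob a) hv ⟨_, rfl⟩) ((map_zero f).symm ▸ zero_mem _)
      · change stdMap G v h₀ (H (Pi.single i.succ z)) + f (T (Pi.single i.succ z)) ∈ Isoc.slopePart G ((d i : ℚ) / h i)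
        rw [show H (Pi.single i.succ z) = 0 from Pi.single_eq_of_ne (M := fun i => Fin ((Fin.cons h₀ h : Fin (t + 1) → ℕ) i) → FractionRing (WittVector p k)) (Fin.succ_ne_zero i).symm z,
          show T (Pi.single i.succ z) = Pi.single i z from funext fun j => by
            rcases eq_or_ne j i with rfl | hj
            · exact (Pi.single_eq_same (M := fun i => Fin ((Fin.cons h₀ h : Fin (t + 1) → ℕ) i) → FractionRing (WittVector p k)) j.succ z).trans
                (Pi.single_eq_same (M := fun i => Fin (h i) → FractionRing (WittVector p k)) j z).symm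
            · exact (Pi.single_eq_of_ne (M := fun i => Fin ((Fin.cons h₀ h : Fin (t + 1) → ℕ) i) → FractionRing (WittVector p k)) (fun e => hj (Fin.succ_injective _ e)) z).trans
                (Pi.single_eq_of_ne (M := fun i => Fin (h i) → FractionRing (WittVector p k)) hj z).symm]
        exact add_mem ((map_zero (stdMap G v h₀)).symm ▸ zero_mem _) (hfs i z)

end Groth.Agent.IsocLib
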