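import Groth.Agent.IsocLib.Isoclinic
import Mathlib.RingTheory.WittVector.Complete
import Mathlib.RingTheory.AdicCompletion.Basic

/-! # The slope decomposition -/

namespace Groth.Agent.IsocLib

open scoped Pointwise

universe u v

variable {p : ℕ} [Fact p.Prime] {k : Type u} [Field k] [CharP k p] [PerfectRing k p]
variable {N : Type v} [AddCommGroup N] [Module (WittVector p k) N] [Module (FractionRing (WittVector p k)) N] [IsScalarTower (WittVector p k) (FractionRing (WittVector p k)) N]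
variable {τ : (FractionRing (WittVector p k)) →+* (FractionRing (WittVector p k))} (G : N →ₛₗ[τ] N)

/-- The eventually constant chain between `p M` and `M`. -/
theorem chain_stab_one {h : ℕ} (b : Module.Basis (Fin h) (FractionRing (WittVector p k)) N) {M : Submodule (WittVector p k) N} (hM : M.IsLattice (FractionRing (WittVector p k)))
    (X : ℕ → Submodule (WittVector p k) N) (hX : Antitone X) (hlo : ∀ j, Isoc.pPow 1 M ≤ X j) (hhi : ∀ j, X j ≤ M) :
    ∃ J, ∀ j, J ≤ j → X j = X J := by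
  obtain ⟨φ, -, hker⟩ := exists_residue_map b hM
  let U : ℕ → Submodule k (Fin h → k) := fun j => Submodule.span k (φ '' {x | (x : N) ∈ X j})
  have hU : Antitone U := fun i j hij => Submodule.span_mono (Set.image_mono fun x hx => hX hij hx)
  obtain ⟨J, hJ⟩ := IsArtinian.monotone_stabilizes (R := k) (M := Fin h → k)
    ⟨fun j => OrderDual.toDual (U j), fun i j hij => hU hij⟩
  refine ⟨J, fun j hj => le_antisymm (hX hj) ?_⟩
  have he : U J = U j := congrArg OrderDual.ofDual (hJ j hj)
  exact (le_sup_of_map_le hker (hhi J) (hhi j) he.le).trans (sup_le le_rfl (hlo j))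

theorem chain_stab {h : ℕ} (b : Module.Basis (Fin h) (FractionRing (WittVector p k)) N) {M : Submodule (WittVector p k) N} (hM : M.IsLattice (FractionRing (WittVector p k)))
    (n : ℕ) : ∀ (X : ℕ → Submodule (WittVector p k) N), Antitone X → (∀ j, Isoc.pPow n M ≤ X j) → (∀ j, X j ≤ M) →
      ∃ J, ∀ j, J ≤ j → X j = X J := by
  induction n with
  | zero =>
    intro X _ hlo hhi
    refine ⟨0, fun j _ => ?_⟩
    have he : ∀ j, X j = M := fun j => le_antisymm (hhi j) (by have := hlo j; rwa [Nat.cast_zero, pPow_zero] at this)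
    rw [he, he]
  | succ n ih =>
    intro X hX hlo hhi
    have hn : Isoc.pPow n M ≤ M := le_trans (pPow_anti (Int.natCast_nonneg n) M) (pPow_zero M).le
    obtain ⟨J₁, h₁⟩ := ih (fun j => X j ⊔ Isoc.pPow n M) (fun i j hij => sup_le_sup_right (hX hij) _)
      (fun j => le_sup_right) (fun j => sup_le (hhi j) hn)
    obtain ⟨J₂, h₂⟩ := chain_stab_one b hM (fun j => Isoc.pPow (-(n : ℤ)) (X j ⊓ Isoc.pPow n M))
      (fun i j hij => pPow_mono _ (inf_le_inf_right _ (hX hij)))
      (fun j => by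
        rw [pPow_le_iff, pPow_pPow, ← sub_eq_add_neg, ← neg_add', ← pPow_le_iff]
        rw [le_inf_iff]
        refine ⟨le_trans (le_of_eq (by congr 1; push_cast; ring)) (hlo j), pPow_anti (by omega) M⟩)
      (fun j => by rw [pPow_le_iff, neg_neg]; exact inf_le_right)
    refine ⟨J₁ + J₂, fun j hj => eq_of_le_of_inf_le_of_sup_le (hX hj) ?_ ?_ (z := Isoc.pPow n M)⟩
    · have h3 := (h₂ (J₁ + J₂) (by omega)).trans (h₂ j (by omega)).symm
      have h4 := congrArg (Isoc.pPow (n : ℤ)) h3
      simp only [pPow_pPow, add_neg_cancel, pPow_zero] at h4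
      exact h4.le
    · exact ((h₁ (J₁ + J₂) (by omega)).trans (h₁ j (by omega)).symm).le

theorem exists_limit {h : ℕ} (b : Module.Basis (Fin h) (FractionRing (WittVector p k)) N) {M : Submodule (WittVector p k) N} (hM : M.IsLattice (FractionRing (WittVector p k)))
    (u : ℕ → N) (hu : ∀ i : ℕ, u (i + 1) - u i ∈ Isoc.pPow i M) :
    ∃ v : N, ∀ i : ℕ, v - u i ∈ Isoc.pPow i M := by
  obtain ⟨c, hc⟩ := exists_lattice_basis b hM
  choose w hw using fun i => (Submodule.mem_span_range_iff_exists_fun (WittVector p k)).1 (hc.symm ▸ mem_pPow.1 (hu i))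
  haveI : IsAdicComplete (Ideal.span {(p : (WittVector p k))}) (WittVector p k) := WittVector.isAdicCompleteIdealSpanP
  let S : Fin h → ℕ → (WittVector p k) := fun l n => ∑ i ∈ Finset.range n, (p : (WittVector p k)) ^ i * w i l
  have hS : ∀ l, ∃ z, ∀ n, S l n ≡ z [SMOD (Ideal.span {(p : (WittVector p k))} ^ n • ⊤ : Submodule (WittVector p k) (WittVector p k))] := by
    intro l
    refine IsPrecomplete.prec inferInstance fun {m n} hmn => ?_
    rw [SModEq.sub_mem, smul_eq_mul, Ideal.mul_top, Ideal.span_singleton_pow, Ideal.mem_span_singleton,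
      dvd_sub_comm]
    simp only [S]
    rw [← Finset.sum_range_add_sum_Ico _ hmn, add_sub_cancel_left]
    exact Finset.dvd_sum fun i hi => dvd_mul_of_dvd_left (pow_dvd_pow _ (Finset.mem_Ico.1 hi).1) _
  choose z hz using hS
  refine ⟨u 0 + ∑ l, z l • c l, fun i => ?_⟩
  have hsum : u i = u 0 + ∑ l, S l i • c l := by
    induction i with
    | zero => simp [S]
    | succ i ih =>
      have hstep : u (i + 1) = u i + (p : (WittVector p k)) ^ i • ∑ l, w i l • c l := by
        rw [hw i, smul_eq_algebraMap, map_pow, algebraMap_p, smul_smul, ← zpow_natCast, ← zpow_add₀ ne_zero_p,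
          add_neg_cancel, zpow_zero, one_smul, add_sub_cancel]
      rw [hstep, ih, Finset.smul_sum, add_assoc, ← Finset.sum_add_distrib]
      congr 1
      refine Finset.sum_congr rfl fun l _ => ?_
      simp only [S, Finset.sum_range_succ, add_smul, mul_smul]
  rw [hsum, add_sub_add_left_eq_sub, ← Finset.sum_sub_distrib]
  refine Submodule.sum_mem _ fun l _ => ?_
  rw [← sub_smul]
  have h1 := hz l i
  rw [SModEq.sub_mem, smul_eq_mul, Ideal.mul_top, Ideal.span_singleton_pow, Ideal.mem_span_singleton,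
    dvd_sub_comm] at h1
  obtain ⟨e, he⟩ := h1
  rw [he, mul_smul, smul_eq_algebraMap ((p : (WittVector p k)) ^ i), map_pow, algebraMap_p, ← zpow_natCast]
  exact smul_mem_pPow (Submodule.smul_mem _ _ (hc ▸ Submodule.subset_span ⟨l, rfl⟩))

/-- The bijective part. -/
noncomputable def M0 (M : Submodule (WittVector p k) N) : Submodule (WittVector p k) N := ⨅ j : ℕ, Isoc.latImg G j M

theorem M0_le (M : Submodule (WittVector p k) N) : M0 G M ≤ M := (iInf_le _ 0).trans (latImg_zero G M).le

theorem latImg_anti (hτ : Good τ) {M : Submodule (WittVector p k) N} (hle : Isoc.latImg G 1 M ≤ M) :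
    Antitone fun j => Isoc.latImg G j M :=
  antitone_nat_of_succ_le fun j => by rw [latImg_add G hτ]; exact latImg_mono G j hle

theorem latImg_M0 (hG : Function.Injective G) (hτ : Good τ) {M : Submodule (WittVector p k) N} (hle : Isoc.latImg G 1 M ≤ M) :
    Isoc.latImg G 1 (M0 G M) = M0 G M := by
  refine le_antisymm (le_iInf fun j => ?_) fun x hx => ?_
  · refine (latImg_mono G 1 (iInf_le (fun j => Isoc.latImg G j M) j)).trans ?_
    rw [← latImg_add G hτ]
    exact latImg_anti G hτ hle (Nat.le_add_left j 1)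
  · obtain ⟨y, -, hy⟩ := (mem_latImg G hτ).1 ((Submodule.mem_iInf _).1 hx 1)
    refine (mem_latImg G hτ).2 ⟨y, (Submodule.mem_iInf _).2 fun j => ?_, hy⟩
    have := (Submodule.mem_iInf _).1 hx (1 + j)
    rw [latImg_add G hτ, mem_latImg G hτ] at this
    obtain ⟨z, hz, hzx⟩ := this
    exact hG (hzx.trans hy.symm) ▸ hz

theorem latImg_M0_iterate (hG : Function.Injective G) (hτ : Good τ) {M : Submodule (WittVector p k) N}
    (hle : Isoc.latImg G 1 M ≤ M) (j : ℕ) : Isoc.latImg G j (M0 G M) = M0 G M := by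
  have h1 : Isoc.latImg G 1 (M0 G M) = Isoc.pPow 0 (M0 G M) := by rw [latImg_M0 G hG hτ hle, pPow_zero]
  have h2 := eq_iterate G hτ h1 j
  rwa [one_mul, zero_mul, pPow_zero] at h2

theorem mem_of_iterate_mem (hG : Function.Injective G) (hτ : Good τ) {M : Submodule (WittVector p k) N} (hM : M.FG)
    (hle : Isoc.latImg G 1 M ≤ M) (n : ℤ) {u : N} (hu : u ∈ M0 G M) {j : ℕ}
    (hj : (⇑G)^[j] u ∈ Isoc.pPow n M) : u ∈ Isoc.pPow n M := by
  haveI := isNoetherian_of_fg_of_noetherian M hM
  let K : ℕ → Submodule (WittVector p k) M := fun i =>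
    { carrier := {v | (v : N) ∈ M0 G M ∧ (⇑G)^[i] (v : N) ∈ Isoc.pPow n M}
      zero_mem' := ⟨zero_mem _, by rw [Submodule.coe_zero, iterate_map_zero]; exact zero_mem _⟩
      add_mem' := fun {a c} ha hc => ⟨add_mem ha.1 hc.1, by
        rw [Submodule.coe_add, iterate_map_add]; exact add_mem ha.2 hc.2⟩
      smul_mem' := fun w v hv => ⟨Submodule.smul_mem _ _ hv.1, by
        obtain ⟨w', hw'⟩ := (hτ.pow i).intW w
        rw [Submodule.coe_smul, smul_eq_algebraMap w, iterate_smul, hw', ← smul_eq_algebraMap]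
        exact Submodule.smul_mem _ _ hv.2⟩ }
  have hK : Monotone K := monotone_nat_of_le_succ fun i v hv => ⟨hv.1, by
    rw [Function.iterate_succ_apply']
    have h1 : (⇑G)^[1] ((⇑G)^[i] (v : N)) ∈ Isoc.latImg G 1 (Isoc.pPow n M) := mem_latImg_of_mem G hv.2
    rw [latImg_pPow G hτ] at h1
    exact pPow_mono n hle h1⟩
  obtain ⟨a, ha⟩ := monotone_stabilizes_iff_noetherian.2 (inferInstance : IsNoetherian (WittVector p k) M) ⟨K, hK⟩
  rw [← latImg_M0_iterate G hG hτ hle a, mem_latImg G hτ] at hu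
  obtain ⟨v, hv, rfl⟩ := hu
  have h1 : (⟨v, M0_le G M hv⟩ : M) ∈ K (j + a) := ⟨hv, by rw [Function.iterate_add_apply]; exact hj⟩
  have e : K a = K (j + a) := ha (j + a) (Nat.le_add_left a j)
  rw [← e] at h1
  exact h1.2

/-- The topologically nilpotent part. -/
noncomputable def Nplus (hτ : Good τ) (M : Submodule (WittVector p k) N) : Submodule (FractionRing (WittVector p k)) N where
  carrier := {x | ∀ n : ℤ, ∃ j₀ : ℕ, ∀ j, j₀ ≤ j → (⇑G)^[j] x ∈ Isoc.pPow n M}
  zero_mem' := fun n => ⟨0, fun j _ => by rw [iterate_map_zero]; exact zero_mem _⟩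
  add_mem' := fun {x y} hx hy n => by
    obtain ⟨a, ha⟩ := hx n
    obtain ⟨b, hb⟩ := hy n
    exact ⟨max a b, fun j hj => by
      rw [iterate_map_add]
      exact add_mem (ha j (le_trans (le_max_left _ _) hj)) (hb j (le_trans (le_max_right _ _) hj))⟩
  smul_mem' := fun c x hx n => by
    obtain ⟨e, w, hw⟩ := exists_zpow_mul c
    obtain ⟨a, ha⟩ := hx (n + e)
    refine ⟨a, fun j hj => ?_⟩
    obtain ⟨w', hw'⟩ := (hτ.pow j).intW w
    rw [← hw, map_mul, tau_zpow] at hw'
    rw [iterate_smul, mem_pPow, smul_smul,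
      show (p : (FractionRing (WittVector p k))) ^ (-n) * (τ ^ j) c = ((p : (FractionRing (WittVector p k))) ^ (e : ℤ) * (τ ^ j) c) * (p : (FractionRing (WittVector p k))) ^ (-(n + e)) by
        rw [show -(n : ℤ) = (e : ℤ) + -(n + e) by ring, zpow_add₀ ne_zero_p]; ring,
      hw', mul_smul, ← smul_eq_algebraMap]
    exact M.smul_mem _ (mem_pPow.1 (ha j hj))

theorem split_effective (hG : Function.Bijective G) (hτ : Good τ) {h : ℕ} (b : Module.Basis (Fin h) (FractionRing (WittVector p k)) N)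
    {M : Submodule (WittVector p k) N} (hM : M.IsLattice (FractionRing (WittVector p k))) (hle : Isoc.latImg G 1 M ≤ M) :
    ∀ x ∈ M, ∃ m ∈ M0 G M, x - m ∈ Nplus G hτ M := by
  haveI : Module.Finite (FractionRing (WittVector p k)) N := Module.Finite.of_basis b
  have hiso : Isoc.IsIsoc G := ⟨inferInstance, hG⟩
  have hleM : ∀ j, Isoc.latImg G j M ≤ M := fun j => ((latImg_anti G hτ hle) (Nat.zero_le j)).trans (latImg_zero G M).le
  have hpn : ∀ n : ℕ, Isoc.pPow n M ≤ M := fun n => le_trans (pPow_anti (Int.natCast_nonneg n) M) (pPow_zero M).le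
  choose J hJ using fun n => chain_stab b hM n (fun j => Isoc.latImg G j M ⊔ Isoc.pPow n M)
    (fun i j hij => sup_le_sup_right (latImg_anti G hτ hle hij) _) (fun _ => le_sup_right) (fun j => sup_le (hleM j) (hpn n))
  let U : ℕ → Submodule (WittVector p k) N := fun n => Isoc.latImg G (J n) M ⊔ Isoc.pPow n M
  have hU : ∀ n j, U n ≤ Isoc.latImg G j M ⊔ Isoc.pPow n M := fun n j => by
    rcases le_total (J n) j with hj | hj
    · exact (hJ n j hj).ge
    · exact sup_le_sup_right (latImg_anti G hτ hle hj) _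
  -- closedness of `M0`
  have hclosed : ∀ u, (∀ i : ℕ, ∃ i', i ≤ i' ∧ u ∈ U i') → u ∈ M0 G M := by
    intro u hu
    refine (Submodule.mem_iInf _).2 fun j => ?_
    obtain ⟨c, hc⟩ := exists_le_pPow (isLattice_latImg G hiso hτ j hM) hM.fg
    obtain ⟨i, hi, hui⟩ := hu (-c).toNat
    refine (sup_le le_rfl ?_ : Isoc.latImg G j M ⊔ Isoc.pPow i M ≤ Isoc.latImg G j M) (hU i j hui)
    rw [pPow_le_iff]
    refine hc.trans (pPow_anti ?_ _)
    have h1 : -c ≤ ((-c).toNat : ℤ) := Int.self_le_toNat _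
    have h2 : ((-c).toNat : ℤ) ≤ i := by exact_mod_cast hi
    omega
  -- lift from `U n` to `M0`
  have hlift : ∀ n, ∀ a ∈ U n, ∃ m ∈ M0 G M, m - a ∈ Isoc.pPow n M := by
    intro n a ha
    have hstep : ∀ i, ∀ y ∈ U (n + i), ∃ y' ∈ U (n + (i + 1)), y' - y ∈ Isoc.pPow (n + i : ℕ) M := by
      intro i y hy
      obtain ⟨g, hg, e, he, rfl⟩ := Submodule.mem_sup.1 (hU (n + i) (J (n + (i + 1))) hy)
      exact ⟨g, Submodule.mem_sup_left hg, by rw [sub_add_cancel_left]; exact neg_mem he⟩
    choose g hg hg' using hstep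
    let seq : (i : ℕ) → {y // y ∈ U (n + i)} := fun i =>
      Nat.rec ⟨a, ha⟩ (fun i y => ⟨g i y.1 y.2, hg i y.1 y.2⟩) i
    have hd : ∀ i : ℕ, (seq (i + 1)).1 - (seq i).1 ∈ Isoc.pPow i M := fun i =>
      pPow_anti (by push_cast; omega) M (hg' i (seq i).1 (seq i).2)
    obtain ⟨v, hv⟩ := exists_limit b hM (fun i => (seq i).1) hd
    -- sharpen the precision
    have hv' : ∀ i : ℕ, v - (seq i).1 ∈ Isoc.pPow (n + i : ℕ) M := by
      intro i
      have h1 : ∀ l, (seq (i + l)).1 - (seq i).1 ∈ Isoc.pPow (n + i : ℕ) M := fun l => by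
        induction l with
        | zero => simp
        | succ l ih =>
          rw [← sub_add_sub_cancel _ (seq (i + l)).1]
          exact add_mem (pPow_anti (by push_cast; omega) M (hg' (i + l) (seq (i + l)).1 (seq (i + l)).2)) ih
      rw [← sub_add_sub_cancel v (seq (i + n)).1]
      exact add_mem (pPow_anti (by push_cast; omega) M (hv (i + n))) (h1 n)
    refine ⟨v, hclosed v fun i => ⟨n + i, Nat.le_add_left i n, ?_⟩, ?_⟩
    · rw [← sub_add_cancel v (seq i).1]
      exact add_mem (Submodule.mem_sup_right (hv' i)) (seq i).2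
    · exact hv' 0
  intro x hx
  have happ : ∀ n : ℕ, ∃ m ∈ M0 G M, ∃ j₀ : ℕ, ∀ j, j₀ ≤ j → (⇑G)^[j] (x - m) ∈ Isoc.pPow n M := by
    intro n
    have h1 : (⇑G)^[J n] x ∈ U n := Submodule.mem_sup_left (mem_latImg_of_mem G hx)
    obtain ⟨g, hg, e, he, hge⟩ := Submodule.mem_sup.1 (hU n (J n + J n) h1)
    rw [latImg_add G hτ, mem_latImg G hτ] at hg
    obtain ⟨a, ha, rfl⟩ := hg
    obtain ⟨m, hm, hma⟩ := hlift n a (Submodule.mem_sup_left ha)
    refine ⟨m, hm, J n, fun j hj => ?_⟩
    have h2 : ∀ (i : ℕ) (z : N), z ∈ Isoc.pPow n M → (⇑G)^[i] z ∈ Isoc.pPow n M := fun i z hz => by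
      have h3 : (⇑G)^[i] z ∈ Isoc.latImg G i (Isoc.pPow n M) := mem_latImg_of_mem G hz
      rw [latImg_pPow G hτ] at h3
      exact pPow_mono _ (hleM i) h3
    rw [show j = (j - J n) + J n by omega, Function.iterate_add_apply]
    refine h2 _ _ ?_
    rw [show x - m = (x - a) + -(m - a) by abel, iterate_map_add, iterate_map_sub, ← hge, add_sub_cancel_left]
    exact add_mem he (h2 _ _ (neg_mem hma))
  choose m hm j₀ hj₀ using happ
  have hcauchy : ∀ i : ℕ, m (i + 1) - m i ∈ Isoc.pPow i M := fun i => by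
    refine mem_of_iterate_mem G hG.1 hτ hM.fg hle i (sub_mem (hm _) (hm _)) (j := j₀ i + j₀ (i + 1)) ?_
    rw [show m (i + 1) - m i = (x - m i) - (x - m (i + 1)) by abel, iterate_map_sub]
    exact sub_mem (hj₀ i _ (by omega)) (pPow_anti (by push_cast; omega) M (hj₀ (i + 1) _ (by omega)))
  obtain ⟨v, hv⟩ := exists_limit b hM m hcauchy
  refine ⟨v, hclosed v fun i => ⟨i, le_rfl, ?_⟩, fun n => ⟨j₀ n.toNat, fun j hj => ?_⟩⟩
  · rw [← sub_add_cancel v (m i)]
    exact add_mem (Submodule.mem_sup_right (hv i)) (Submodule.mem_sup_left (iInf_le (fun j => Isoc.latImg G j M) (J i) (hm i)))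
  · refine pPow_anti (Int.self_le_toNat n) M ?_
    rw [show x - v = (x - m n.toNat) - (v - m n.toNat) by abel, iterate_map_sub]
    refine sub_mem (hj₀ _ j hj) ?_
    have h3 : (⇑G)^[j] (v - m n.toNat) ∈ Isoc.latImg G j (Isoc.pPow n.toNat M) := mem_latImg_of_mem G (hv _)
    rw [latImg_pPow G hτ] at h3
    exact pPow_mono _ (hleM j) h3

theorem Nplus_ne_top (hτ : Good τ) {M : Submodule (WittVector p k) N} (hM : M.FG) (hle : Isoc.latImg G 1 M ≤ M)
    (hne : ∀ j, ¬ Isoc.latImg G j M ≤ Isoc.pPow 1 M) : Nplus G hτ M ≠ ⊤ := by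
  intro htop
  classical
  obtain ⟨t, ht⟩ := hM
  choose j₀ hj₀ using fun x : N => (show x ∈ Nplus G hτ M by rw [htop]; trivial) 1
  refine hne (t.sup j₀) ((latImg_le_iff G).2 fun y hy => ?_)
  rw [← ht] at hy
  induction hy using Submodule.span_induction with
  | mem z hz => exact hj₀ z _ (Finset.le_sup hz)
  | zero => rw [iterate_map_zero]; exact zero_mem _
  | add a c _ _ ha hc => rw [iterate_map_add]; exact add_mem ha hc
  | smul w a _ ha =>
    obtain ⟨w', hw'⟩ := (hτ.pow (t.sup j₀)).intW w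
    rw [smul_eq_algebraMap w, iterate_smul, hw', ← smul_eq_algebraMap]
    exact Submodule.smul_mem _ _ ha

variable (F : N →ₛₗ[τ] N)

theorem exists_split [Nontrivial N] (hF : Isoc.IsIsoc F) (hτ : Good τ) {lam : ℝ} (hlam : Isoc.IsFirstSlope F lam) :
    ∃ (μ : ℚ) (P Q : Submodule (FractionRing (WittVector p k)) N), (∀ x ∈ P, F x ∈ P) ∧ (∀ x ∈ Q, F x ∈ Q) ∧ IsoclinicOn F P μ ∧
      P ⊔ Q = ⊤ ∧ Q ≠ ⊤ := by
  haveI := hF.finite
  let b := Module.finBasis (FractionRing (WittVector p k)) N
  obtain ⟨r, s, M, hs, -, hl, hM, hord⟩ := exists_rational F hτ hF b hlam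
  set G := twistIter F (-r) s
  have hτG := hτ.pow s
  have hG := isIsoc_twistIter F hF (-r) s
  have hle : Isoc.latImg G 1 M ≤ M := by
    have := hord.1
    rw [latImg_twistIter F hτ, mul_one, Nat.cast_one, mul_one, pPow_le_iff, neg_neg]
    exact this
  have hGl : Isoc.IsFirstSlope G (s * lam + ((-r : ℤ) : ℝ)) := isFirstSlope_twistIter F hτ hlam (-r) s
  have hμ0 : (s : ℝ) * lam + ((-r : ℤ) : ℝ) = 0 := by
    rw [hl]; push_cast
    have : (s : ℝ) ≠ 0 := by positivity
    field_simp; ring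
  rw [hμ0] at hGl
  have hne : ∀ j, ¬ Isoc.latImg G j M ≤ Isoc.pPow 1 M := by
    intro j hj
    rcases Nat.eq_zero_or_pos j with rfl | hjpos
    · rw [latImg_zero] at hj
      have := le_of_pPow_le hM (r := 0) (s := 1) (by rwa [pPow_zero])
      omega
    · have h1 := slope_ge_of_le G hG hτG hGl hM hjpos hj
      rw [Int.cast_one] at h1
      have : (0 : ℝ) < 1 / j := by positivity
      linarith
  -- `F` commutes with `G`
  have hcomm : ∀ (j : ℕ) x, (⇑G)^[j] (F x) = F ((⇑G)^[j] x) := by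
    intro j x
    rw [twistIter_iterate, twistIter_iterate, map_smulₛₗ, tau_zpow, ← Function.iterate_succ_apply,
      Function.iterate_succ_apply']
  obtain ⟨c, hc⟩ := exists_le_pPow hM (fg_latImg F hτ 1 hM.fg)
  have hcF : ∀ (n : ℤ) y, y ∈ Isoc.pPow n M → F y ∈ Isoc.pPow (n + c) M := fun n y hy => by
    have h1 : (⇑F)^[1] y ∈ Isoc.latImg F 1 (Isoc.pPow n M) := mem_latImg_of_mem F hy
    rw [latImg_pPow F hτ] at h1
    rw [← pPow_pPow]
    exact pPow_mono _ hc h1
  refine ⟨(r : ℚ) / s, Submodule.span (FractionRing (WittVector p k)) (M0 G M : Set N), Nplus G hτG M, ?_, ?_, ?_, ?_,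
    Nplus_ne_top G hτG hM.fg hle hne⟩
  · intro x hx
    induction hx using Submodule.span_induction with
    | mem y hy =>
      have h1 : (p : (FractionRing (WittVector p k))) ^ (-c) • F y ∈ M0 G M := by
        refine (Submodule.mem_iInf _).2 fun j => ?_
        rw [← latImg_M0_iterate G hG.bijective.1 hτG hle j, SetLike.mem_coe, mem_latImg G hτG] at hy
        obtain ⟨z, hz, rfl⟩ := hy
        rw [← hcomm, ← iterate_zpow_smul]
        refine mem_latImg_of_mem G (mem_pPow.1 ?_)
        simpa using hcF 0 z (by rw [pPow_zero]; exact M0_le G M hz)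
      have h2 := Submodule.smul_mem (Submodule.span (FractionRing (WittVector p k)) (M0 G M : Set N)) ((p : (FractionRing (WittVector p k))) ^ c) (Submodule.subset_span h1)
      rwa [smul_smul, ← zpow_add₀ ne_zero_p, add_neg_cancel, zpow_zero, one_smul] at h2
    | zero => rw [map_zero]; exact zero_mem _
    | add a b _ _ ha hb => rw [map_add]; exact add_mem ha hb
    | smul a b _ hb => rw [map_smulₛₗ]; exact Submodule.smul_mem _ _ hb
  · intro x hx n
    obtain ⟨j₀, hj₀⟩ := hx (n - c)
    refine ⟨j₀, fun j hj => ?_⟩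
    rw [hcomm]
    simpa using hcF _ _ (hj₀ j hj)
  · haveI := isNoetherian_of_fg_of_noetherian M hM.fg
    haveI : IsNoetherian (WittVector p k) ↥(M0 G M) := isNoetherian_of_le (M0_le G M)
    refine ⟨M0 G M, Module.Finite.iff_fg.1 inferInstance, rfl, r, s, hs, rfl, ?_⟩
    have h1 := latImg_M0 G hG.bijective.1 hτG hle
    rw [latImg_twistIter F hτ, mul_one, Nat.cast_one, mul_one] at h1
    have h2 := congrArg (Isoc.pPow r) h1
    rwa [pPow_pPow, add_neg_cancel, pPow_zero] at h2
  · rw [eq_top_iff, ← hM.span_eq_top, Submodule.span_le]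
    intro x hx
    obtain ⟨m, hm, hxm⟩ := split_effective G hG.bijective hτG b hM hle x hx
    rw [SetLike.mem_coe, ← add_sub_cancel m x]
    exact Submodule.add_mem_sup (Submodule.subset_span hm) hxm

theorem isoclinicOn_map {P : Submodule (FractionRing (WittVector p k)) N} (hP : ∀ x ∈ P, F x ∈ P) {Q : Submodule (FractionRing (WittVector p k)) P} {μ : ℚ}
    (h : IsoclinicOn (F.restrict hP) Q μ) : IsoclinicOn F (Q.map P.subtype) μ := by
  obtain ⟨M, hfg, hsp, r, s, hs, hμ, he⟩ := h
  refine ⟨M.map (P.subtype.restrictScalars (WittVector p k)), hfg.map _, ?_, r, s, hs, hμ, ?_⟩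
  · rw [Submodule.map_coe, LinearMap.coe_restrictScalars, ← Submodule.map_span, hsp]
  · rw [← map_latImg_restrict F hP, he, map_pPow_subtype]

theorem iSup_slopePart (hF : Isoc.IsIsoc F) (hτ : Good τ) : ⨆ μ, Isoc.slopePart F μ = ⊤ := by
  haveI := hF.finite
  suffices H : ∀ n, ∀ P : Submodule (FractionRing (WittVector p k)) N, Module.finrank (FractionRing (WittVector p k)) P = n → (∀ x ∈ P, F x ∈ P) →
      P ≤ ⨆ μ, Isoc.slopePart F μ from eq_top_iff.2 (H _ ⊤ rfl fun _ _ => trivial)
  intro n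
  induction n using Nat.strong_induction_on with
  | _ n ih =>
    intro P hn hP
    rcases subsingleton_or_nontrivial P with hs | hs
    · intro x hx
      rw [show x = 0 from congrArg Subtype.val (Subsingleton.elim (⟨x, hx⟩ : P) 0)]
      exact zero_mem _
    have hFP := isIsoc_restrict F hF hτ hP
    obtain ⟨M, hM⟩ : ∃ M : Submodule (WittVector p k) P, M.IsLattice (FractionRing (WittVector p k)) :=
      ⟨Submodule.span (WittVector p k) (Set.range (Module.finBasis (FractionRing (WittVector p k)) P)), ⟨Submodule.fg_span (Set.finite_range _), by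
        rw [Submodule.span_span_of_tower, (Module.finBasis (FractionRing (WittVector p k)) P).span_eq]⟩⟩
    obtain ⟨o, ho⟩ := exists_ord_fun (F.restrict hP) hFP hτ hM
    obtain ⟨lam, hlim⟩ := exists_tendsto (F.restrict hP) hFP hτ hM o fun n _ => ho n
    obtain ⟨μ, A, B, hA, hB, hiso, hAB, hBne⟩ := exists_split (F.restrict hP) hFP hτ
      (lam := lam) ⟨M, hM, o, fun n _ => ho n, hlim⟩
    have hAs : ∀ x ∈ A.map P.subtype, F x ∈ A.map P.subtype := by
      rintro _ ⟨x, hx, rfl⟩; exact ⟨_, hA x hx, rfl⟩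
    have hBs : ∀ x ∈ B.map P.subtype, F x ∈ B.map P.subtype := by
      rintro _ ⟨x, hx, rfl⟩; exact ⟨_, hB x hx, rfl⟩
    have hP' : P = A.map P.subtype ⊔ B.map P.subtype := by
      rw [← Submodule.map_sup, hAB, Submodule.map_top, Submodule.range_subtype]
    have hlt : Module.finrank (FractionRing (WittVector p k)) (B.map P.subtype) < n := by
      rw [← hn, LinearEquiv.finrank_eq (Submodule.equivMapOfInjective P.subtype P.injective_subtype B).symm]
      exact Submodule.finrank_lt hBne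
    rw [hP']
    refine sup_le (le_iSup_of_le μ ?_) (ih _ hlt _ rfl hBs)
    rw [slopePart_eq_sSup]
    exact le_sSup ⟨hAs, isoclinicOn_map F hP hiso⟩

theorem iSupIndep_slopePart (hF : Isoc.IsIsoc F) (hτ : Good τ) : iSupIndep fun μ => Isoc.slopePart F μ := by
  classical
  rw [iSupIndep_iff_supIndep]
  intro s
  induction s using Finset.induction_on_min with
  | empty => exact Finset.supIndep_empty _
  | insert μ₀ s hlt ih =>
    exact ih.insert (disjoint_min F hF hτ s μ₀ hlt)

end Groth.Agent.IsocLib
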