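import Groth.Agent.IsocLib.Lattice
import Mathlib.LinearAlgebra.Matrix.Determinant.Basic
import Mathlib.LinearAlgebra.Matrix.NonsingularInverse
import Mathlib.LinearAlgebra.Matrix.Basis
import Mathlib.LinearAlgebra.Matrix.ToLinearEquiv
import Mathlib.LinearAlgebra.FreeModule.PID
import Mathlib.Tactic.LinearCombination

/-! # Determinants of semilinear maps -/

namespace Groth.Agent.IsocLib

open scoped Pointwise

universe u v

variable {p : ℕ} [Fact p.Prime] {k : Type u} [Field k] [CharP k p] [PerfectRing k p]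

theorem ordP_zpow (r : ℤ) : Isoc.IsOrdP ((p : (FractionRing (WittVector p k))) ^ r) r :=
  ⟨1, by rw [Units.val_one, map_one, mul_one]⟩

theorem ordP_one : Isoc.IsOrdP (1 : (FractionRing (WittVector p k))) 0 := by
  simpa using ordP_zpow (p := p) (k := k) 0

theorem ordP_mul {c c' : (FractionRing (WittVector p k))} {r r' : ℤ} (h : Isoc.IsOrdP c r) (h' : Isoc.IsOrdP c' r') :
    Isoc.IsOrdP (c * c') (r + r') := by
  obtain ⟨u, rfl⟩ := h
  obtain ⟨v, rfl⟩ := h'
  exact ⟨u * v, by rw [Units.val_mul, map_mul, zpow_add₀ ne_zero_p]; ring⟩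

theorem ordP_tau {τ : (FractionRing (WittVector p k)) →+* (FractionRing (WittVector p k))} (hτ : Good τ) {c : (FractionRing (WittVector p k))} {r : ℤ} (h : Isoc.IsOrdP c r) :
    Isoc.IsOrdP (τ c) r := by
  obtain ⟨u, rfl⟩ := h
  obtain ⟨a, ha⟩ := hτ.intW (u : (WittVector p k))
  obtain ⟨b, hb⟩ := hτ.intW (↑u⁻¹ : (WittVector p k))
  have hab : a * b = 1 := IsFractionRing.injective (WittVector p k) (FractionRing (WittVector p k)) (by
    rw [map_mul, ← ha, ← hb, ← map_mul, ← map_mul, Units.mul_inv, map_one, map_one])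
  exact ⟨⟨a, b, hab, by rw [mul_comm, hab]⟩, by rw [map_mul, tau_zpow, ha]⟩

theorem ordP_nonneg {c : (FractionRing (WittVector p k))} {r : ℤ} (h : Isoc.IsOrdP c r) {w : (WittVector p k)} (hw : c = algebraMap (WittVector p k) (FractionRing (WittVector p k)) w) :
    0 ≤ r := by
  by_contra hlt
  obtain ⟨u, rfl⟩ := h
  obtain ⟨n, hn⟩ : ∃ n : ℕ, r = -((n + 1 : ℕ) : ℤ) := ⟨(-r - 1).toNat, by omega⟩
  have h1 : algebraMap (WittVector p k) (FractionRing (WittVector p k)) (u : (WittVector p k)) = algebraMap (WittVector p k) (FractionRing (WittVector p k)) (w * (p : (WittVector p k)) ^ (n + 1)) := by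
    rw [map_mul, ← hw, map_pow, algebraMap_p, hn, zpow_neg, zpow_natCast, mul_right_comm,
      inv_mul_cancel₀ (pow_ne_zero _ ne_zero_p), one_mul]
  have h2 : IsUnit ((p : (WittVector p k)) ^ (n + 1)) :=
    isUnit_of_mul_isUnit_right (IsFractionRing.injective (WittVector p k) (FractionRing (WittVector p k)) h1 ▸ u.isUnit)
  exact (WittVector.irreducible p).not_isUnit ((isUnit_pow_iff (Nat.succ_ne_zero n)).1 h2)

theorem ordP_inv {c : (FractionRing (WittVector p k))} {r : ℤ} (h : Isoc.IsOrdP c r) : Isoc.IsOrdP c⁻¹ (-r) := by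
  obtain ⟨u, rfl⟩ := h
  exact ⟨u⁻¹, by rw [mul_inv, zpow_neg, map_units_inv]⟩

theorem ordP_ne_zero {c : (FractionRing (WittVector p k))} {r : ℤ} (h : Isoc.IsOrdP c r) : c ≠ 0 := by
  obtain ⟨u, rfl⟩ := h
  exact mul_ne_zero (zpow_ne r) ((u.isUnit.map _).ne_zero)

theorem ordP_unique {c : (FractionRing (WittVector p k))} {r r' : ℤ} (h : Isoc.IsOrdP c r) (h' : Isoc.IsOrdP c r') : r = r' := by
  have h1 := ordP_mul h (ordP_inv h')
  have h2 := ordP_mul h' (ordP_inv h)
  rw [mul_inv_cancel₀ (ordP_ne_zero h)] at h1 h2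
  have e1 := ordP_nonneg h1 (map_one (algebraMap (WittVector p k) (FractionRing (WittVector p k)))).symm
  have e2 := ordP_nonneg h2 (map_one (algebraMap (WittVector p k) (FractionRing (WittVector p k)))).symm
  omega

theorem ordP_exists {c : (FractionRing (WittVector p k))} (hc : c ≠ 0) : ∃ r, Isoc.IsOrdP c r := by
  obtain ⟨n, w, hw⟩ := exists_zpow_mul c
  have hw0 : w ≠ 0 := fun h => by
    rw [h, map_zero] at hw
    exact (mul_ne_zero (zpow_ne _) hc) hw
  obtain ⟨m, u, rfl⟩ := WittVector.exists_eq_pow_p_mul' w hw0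
  refine ⟨(m : ℤ) - n, u, ?_⟩
  rw [map_mul, map_pow, algebraMap_p] at hw
  rw [sub_eq_add_neg, zpow_add₀ ne_zero_p, zpow_natCast, zpow_neg, zpow_natCast, mul_right_comm, ← hw,
    zpow_natCast, mul_comm, ← mul_assoc, inv_mul_cancel₀ (pow_ne_zero n ne_zero_p), one_mul]

variable {N : Type v} [AddCommGroup N] [Module (FractionRing (WittVector p k)) N] {τ : (FractionRing (WittVector p k)) →+* (FractionRing (WittVector p k))}

omit [CharP k p] [PerfectRing k p] in
/-- The matrix of a semilinear map. -/
noncomputable def mat {h : ℕ} (b : Module.Basis (Fin h) (FractionRing (WittVector p k)) N) (F : N →ₛₗ[τ] N) :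
    Matrix (Fin h) (Fin h) (FractionRing (WittVector p k)) := Matrix.of fun i j => b.repr (F (b j)) i

theorem detCoeff_eq {h : ℕ} (b : Module.Basis (Fin h) (FractionRing (WittVector p k)) N) (F : N →ₛₗ[τ] N) :
    Isoc.detCoeff b F = (mat b F).det := rfl

theorem repr_apply {h : ℕ} (b : Module.Basis (Fin h) (FractionRing (WittVector p k)) N) (F : N →ₛₗ[τ] N) (x : N) (i : Fin h) :
    b.repr (F x) i = ∑ j, mat b F i j * τ (b.repr x j) := by
  conv_lhs => rw [← b.sum_repr x]
  rw [map_sum, map_sum, Finset.sum_apply']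
  refine Finset.sum_congr rfl fun j _ => ?_
  rw [map_smulₛₗ, map_smul, Finsupp.smul_apply, smul_eq_mul, mul_comm]
  rfl

theorem mat_iter_succ {h : ℕ} (b : Module.Basis (Fin h) (FractionRing (WittVector p k)) N) (F : N →ₛₗ[τ] N) (n : ℕ) :
    mat b (Isoc.iter F (n + 1)) = mat b F * (τ.mapMatrix (mat b (Isoc.iter F n))) := by
  ext i j
  rw [Matrix.mul_apply]
  change b.repr ((⇑F)^[n + 1] (b j)) i = _
  rw [Function.iterate_succ_apply', repr_apply]
  rfl

theorem ordP_detCoeff_iter (hτ : Good τ) {h : ℕ} (b : Module.Basis (Fin h) (FractionRing (WittVector p k)) N) (F : N →ₛₗ[τ] N)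
    {d : ℤ} (hd : Isoc.IsOrdP (Isoc.detCoeff b F) d) (n : ℕ) :
    Isoc.IsOrdP (Isoc.detCoeff b (Isoc.iter F n)) (n * d) := by
  induction n with
  | zero =>
    have : mat b (Isoc.iter F 0) = 1 := by
      ext i j
      change b.repr (b j) i = _
      rw [b.repr_self, Finsupp.single_apply, Matrix.one_apply]
      simp only [eq_comm]
    rw [detCoeff_eq, this, Matrix.det_one, Nat.cast_zero, zero_mul]
    exact ordP_one
  | succ n ih =>
    rw [detCoeff_eq, mat_iter_succ, Matrix.det_mul, ← RingHom.map_det]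
    rw [show ((n + 1 : ℕ) : ℤ) * d = d + n * d by push_cast; ring]
    exact ordP_mul hd (ordP_tau hτ ih)

theorem ordP_detCoeff_basis (hτ : Good τ) {h : ℕ} (b c : Module.Basis (Fin h) (FractionRing (WittVector p k)) N) (F : N →ₛₗ[τ] N)
    {d : ℤ} (hd : Isoc.IsOrdP (Isoc.detCoeff b F) d) : Isoc.IsOrdP (Isoc.detCoeff c F) d := by
  have key : mat b F * τ.mapMatrix (b.toMatrix c) = b.toMatrix c * mat c F := by
    ext i j
    rw [Matrix.mul_apply, Matrix.mul_apply]
    refine (repr_apply b F (c j) i).symm.trans ?_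
    conv_lhs => rw [← c.sum_repr (F (c j)), map_sum, Finset.sum_apply']
    refine Finset.sum_congr rfl fun l _ => ?_
    rw [map_smul, Finsupp.smul_apply, smul_eq_mul, mul_comm]
    rfl
  have hu : (b.toMatrix c).det ≠ 0 := by
    intro h0
    have := congrArg Matrix.det (b.toMatrix_mul_toMatrix_flip c)
    rw [Matrix.det_mul, h0, zero_mul, Matrix.det_one] at this
    exact zero_ne_one this
  obtain ⟨e, he⟩ := ordP_exists hu
  have hdet := congrArg Matrix.det key
  rw [Matrix.det_mul, Matrix.det_mul, ← RingHom.map_det] at hdet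
  have h2 : Isoc.detCoeff c F = (Isoc.detCoeff b F * τ (b.toMatrix c).det) * ((b.toMatrix c).det)⁻¹ := by
    rw [detCoeff_eq, detCoeff_eq, hdet, mul_comm, ← mul_assoc, inv_mul_cancel₀ hu, one_mul]
  rw [h2, show d = (d + e) + -e by ring]
  exact ordP_mul (ordP_mul hd (ordP_tau hτ he)) (ordP_inv he)

theorem detCoeff_ne_zero (hτ : Good τ) {h : ℕ} (b : Module.Basis (Fin h) (FractionRing (WittVector p k)) N) (F : N →ₛₗ[τ] N)
    (hF : Function.Injective F) : Isoc.detCoeff b F ≠ 0 := by
  intro h0
  obtain ⟨v, hv0, hv⟩ := Matrix.exists_mulVec_eq_zero_iff.2 h0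
  choose v' hv' using fun i => hτ.bij.2 (v i)
  have hx : F (∑ j, v' j • b j) = 0 := by
    apply b.repr.injective
    ext i
    rw [repr_apply, map_zero, Finsupp.zero_apply]
    simp only [b.repr_sum_self, hv']
    exact congrFun hv i
  have h1 := hF (hx.trans (map_zero F).symm)
  refine hv0 (funext fun i => ?_)
  rw [← hv' i, show v' i = 0 from Fintype.linearIndependent_iff.1 b.linearIndependent v' h1 i, map_zero]
  rfl

variable [Module (WittVector p k) N] [IsScalarTower (WittVector p k) (FractionRing (WittVector p k)) N]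

theorem exists_lattice_basis {h : ℕ} (b : Module.Basis (Fin h) (FractionRing (WittVector p k)) N) {M : Submodule (WittVector p k) N}
    (hM : M.IsLattice (FractionRing (WittVector p k))) :
    ∃ (c : Module.Basis (Fin h) (FractionRing (WittVector p k)) N), Submodule.span (WittVector p k) (Set.range c) = M := by
  haveI := hM
  haveI : Module.IsTorsionFree (WittVector p k) N := Module.IsTorsionFree.trans_faithfulSMul (WittVector p k) (FractionRing (WittVector p k)) N
  haveI : Module.Free (WittVector p k) M := Module.free_of_finite_type_torsion_free'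
  let bM := Module.finBasis (WittVector p k) M
  let bc := bM.extendOfIsLattice (FractionRing (WittVector p k))
  have hcard : Module.finrank (WittVector p k) M = h := by
    simpa using Fintype.card_congr (bc.indexEquiv b)
  refine ⟨bc.reindex (finCongr hcard), ?_⟩
  rw [Module.Basis.range_reindex, show (⇑bc : _ → N) = M.subtype ∘ bM from funext fun i => bM.extendOfIsLattice_apply (FractionRing (WittVector p k)) i,
    Set.range_comp, ← Submodule.map_span, bM.span_eq, Submodule.map_top, Submodule.range_subtype]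

/-- The integral matrix of `p ^ (-r) • F ^ n` on a lattice basis, and its determinant. -/
theorem exists_int_mat (hτ : Good τ) (F : N →ₛₗ[τ] N) {h : ℕ} (b : Module.Basis (Fin h) (FractionRing (WittVector p k)) N) {d : ℤ}
    (hd : Isoc.IsOrdP (Isoc.detCoeff b F) d) {M : Submodule (WittVector p k) N} (hM : M.IsLattice (FractionRing (WittVector p k))) {n : ℕ} {r : ℤ}
    (hle : Isoc.latImg F n M ≤ Isoc.pPow r M) :
    ∃ (c : Module.Basis (Fin h) (FractionRing (WittVector p k)) N) (B : Matrix (Fin h) (Fin h) (WittVector p k)),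
      Submodule.span (WittVector p k) (Set.range c) = M ∧
      (∀ j, (⇑F)^[n] (c j) = (p : (FractionRing (WittVector p k))) ^ r • ∑ i, B i j • c i) ∧
      Isoc.IsOrdP (algebraMap (WittVector p k) (FractionRing (WittVector p k)) B.det) ((n : ℤ) * d - h * r) := by
  obtain ⟨c, hc⟩ := exists_lattice_basis b hM
  have hmem : ∀ j, (p : (FractionRing (WittVector p k))) ^ (-r) • (⇑F)^[n] (c j) ∈ Submodule.span (WittVector p k) (Set.range c) := fun j => by
    rw [hc]
    exact mem_pPow.1 (hle (mem_latImg_of_mem F (hc ▸ Submodule.subset_span ⟨j, rfl⟩)))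
  choose B hB using fun j => Submodule.mem_span_range_iff_exists_fun (WittVector p k) |>.1 (hmem j)
  refine ⟨c, Matrix.of fun i j => B j i, hc, fun j => ?_, ?_⟩
  · simp only [Matrix.of_apply]
    rw [hB j, smul_smul, ← zpow_add₀ ne_zero_p, add_neg_cancel, zpow_zero, one_smul]
  · have hmat : (algebraMap (WittVector p k) (FractionRing (WittVector p k))).mapMatrix (Matrix.of fun i j => B j i) =
        ((p : (FractionRing (WittVector p k))) ^ (-r)) • mat c (Isoc.iter F n) := by
      ext i j
      rw [Matrix.smul_apply, smul_eq_mul, RingHom.mapMatrix_apply, Matrix.map_apply, Matrix.of_apply]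
      change _ = _ * c.repr ((⇑F)^[n] (c j)) i
      have h1 := congrArg (fun x => c.repr x i) (hB j)
      simp only [map_sum, map_smul, Finsupp.smul_apply, smul_eq_mul, Finset.sum_apply',
        smul_eq_algebraMap, c.repr_self, Finsupp.single_apply, mul_ite, mul_one, mul_zero,
        Finset.sum_ite_eq', Finset.mem_univ, if_true] at h1
      exact h1
    rw [RingHom.map_det, hmat, Matrix.det_smul, Fintype.card_fin, ← detCoeff_eq,
      show (n : ℤ) * d - h * r = (-r) * h + n * d by ring, ← zpow_natCast, ← zpow_mul]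
    exact ordP_mul (ordP_zpow _) (ordP_detCoeff_iter hτ c F (ordP_detCoeff_basis hτ b c F hd) n)

theorem det_le (hτ : Good τ) (F : N →ₛₗ[τ] N) {h : ℕ} (b : Module.Basis (Fin h) (FractionRing (WittVector p k)) N) {d : ℤ}
    (hd : Isoc.IsOrdP (Isoc.detCoeff b F) d) {M : Submodule (WittVector p k) N} (hM : M.IsLattice (FractionRing (WittVector p k))) {n : ℕ} {r : ℤ}
    (hle : Isoc.latImg F n M ≤ Isoc.pPow r M) : (h : ℤ) * r ≤ n * d := by
  obtain ⟨c, B, -, -, hord⟩ := exists_int_mat hτ F b hd hM hle
  have := ordP_nonneg hord rfl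
  linarith

theorem eq_of_det_eq (hτ : Good τ) (F : N →ₛₗ[τ] N) {h : ℕ} (b : Module.Basis (Fin h) (FractionRing (WittVector p k)) N) {d : ℤ}
    (hd : Isoc.IsOrdP (Isoc.detCoeff b F) d) {M : Submodule (WittVector p k) N} (hM : M.IsLattice (FractionRing (WittVector p k))) {n : ℕ} {r : ℤ}
    (hle : Isoc.latImg F n M ≤ Isoc.pPow r M) (he : (h : ℤ) * r = n * d) :
    Isoc.latImg F n M = Isoc.pPow r M := by
  obtain ⟨c, B, hc, hB, hord⟩ := exists_int_mat hτ F b hd hM hle
  rw [show (n : ℤ) * d - h * r = 0 by linarith] at hord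
  obtain ⟨u, hu⟩ := hord
  rw [zpow_zero, one_mul] at hu
  have hdet : IsUnit B.det := IsFractionRing.injective (WittVector p k) (FractionRing (WittVector p k)) hu ▸ u.isUnit
  refine le_antisymm hle ((pPow_le_iff r).2 ?_)
  rw [← hc, Submodule.span_le]
  rintro _ ⟨i, rfl⟩
  rw [SetLike.mem_coe, mem_pPow, neg_neg]
  have h1 : (p : (FractionRing (WittVector p k))) ^ r • c i = ∑ j, (B⁻¹) j i • (⇑F)^[n] (c j) := by
    have hBB := Matrix.mul_nonsing_inv B hdet
    have hs : ∀ l, ∑ j, B l j * B⁻¹ j i = if l = i then 1 else 0 := fun l => by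
      rw [← Matrix.mul_apply, hBB, Matrix.one_apply]
    simp only [hB, smul_comm (B⁻¹ _ _) ((p : (FractionRing (WittVector p k))) ^ r), ← Finset.smul_sum]
    congr 1
    simp only [Finset.smul_sum, smul_smul]
    rw [Finset.sum_comm]
    simp only [← Finset.sum_smul, mul_comm (B⁻¹ _ _), hs, ite_smul, one_smul, zero_smul,
      Finset.sum_ite_eq', Finset.mem_univ, if_true]
  rw [h1, hc]
  exact Submodule.sum_mem _ fun j _ => Submodule.smul_mem _ _ (mem_latImg_of_mem F (hc ▸ Submodule.subset_span ⟨j, rfl⟩))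

theorem det_eq_of_eq (hτ : Good τ) (F : N →ₛₗ[τ] N) {h : ℕ} (b : Module.Basis (Fin h) (FractionRing (WittVector p k)) N) {d : ℤ}
    (hd : Isoc.IsOrdP (Isoc.detCoeff b F) d) {M : Submodule (WittVector p k) N} (hM : M.IsLattice (FractionRing (WittVector p k))) {n : ℕ} {r : ℤ}
    (he : Isoc.latImg F n M = Isoc.pPow r M) : (h : ℤ) * r = n * d := by
  obtain ⟨c, B, hc, hB, hord⟩ := exists_int_mat hτ F b hd hM he.le
  have hspan : ∀ i, c i ∈ Submodule.span (WittVector p k) (Set.range fun j => ∑ l, B l j • c l) := by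
    intro i
    have h1 : (p : (FractionRing (WittVector p k))) ^ r • c i ∈ Isoc.latImg F n M :=
      he ▸ smul_mem_pPow (hc ▸ Submodule.subset_span ⟨i, rfl⟩)
    obtain ⟨m, hm, hmi⟩ := (mem_latImg F hτ).1 h1
    have h2 : ∀ m ∈ Submodule.span (WittVector p k) (Set.range c), (p : (FractionRing (WittVector p k))) ^ (-r) • (⇑F)^[n] m ∈
        Submodule.span (WittVector p k) (Set.range fun j => ∑ l, B l j • c l) := by
      intro m hm
      induction hm using Submodule.span_induction with
      | mem y hy =>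
        obtain ⟨j, rfl⟩ := hy
        rw [hB j, smul_smul, ← zpow_add₀ ne_zero_p, neg_add_cancel, zpow_zero, one_smul]
        exact Submodule.subset_span ⟨j, rfl⟩
      | zero => rw [iterate_map_zero, smul_zero]; exact zero_mem _
      | add y z _ _ hy hz => rw [iterate_map_add, smul_add]; exact add_mem hy hz
      | smul w y _ hy =>
        obtain ⟨w', hw'⟩ := (hτ.pow n).intW w
        rw [smul_eq_algebraMap w, iterate_smul, hw', ← smul_eq_algebraMap, smul_comm]
        exact Submodule.smul_mem _ _ hy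
    have := h2 m (hc ▸ hm)
    rwa [hmi, smul_smul, ← zpow_add₀ ne_zero_p, neg_add_cancel, zpow_zero, one_smul] at this
  choose C hC using fun i => Submodule.mem_span_range_iff_exists_fun (WittVector p k) |>.1 (hspan i)
  have hBC : B * (Matrix.of fun j i => C i j) = 1 := by
    refine Matrix.ext fun l i => ?_
    have h1 := congrArg (fun x => c.repr x l) (hC i)
    simp only [map_sum, map_smul, Finsupp.smul_apply, smul_eq_mul, Finset.sum_apply',
      smul_eq_algebraMap, c.repr_self, Finsupp.single_apply, mul_ite, mul_one, mul_zero,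
      Finset.sum_ite_eq', Finset.mem_univ, if_true] at h1
    refine IsFractionRing.injective (WittVector p k) (FractionRing (WittVector p k)) ?_
    rw [Matrix.mul_apply, map_sum, Matrix.one_apply]
    simp only [Matrix.of_apply, map_mul]
    rw [show (∑ x, algebraMap (WittVector p k) (FractionRing (WittVector p k)) (B l x) * algebraMap (WittVector p k) (FractionRing (WittVector p k)) (C i x)) =
      ∑ x, algebraMap (WittVector p k) (FractionRing (WittVector p k)) (C i x) * algebraMap (WittVector p k) (FractionRing (WittVector p k)) (B l x) from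
        Finset.sum_congr rfl fun x _ => mul_comm _ _, h1]
    simp only [eq_comm (a := i), apply_ite (algebraMap (WittVector p k) (FractionRing (WittVector p k))), map_one, map_zero]
  have hu : IsUnit B.det := isUnit_of_mul_isUnit_left (by
    rw [← Matrix.det_mul, hBC, Matrix.det_one]; exact isUnit_one)
  obtain ⟨u, hu⟩ := hu
  have := ordP_unique hord ⟨u, by rw [zpow_zero, one_mul, hu]⟩
  linarith

end Groth.Agent.IsocLib
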