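import Groth.Agent.IsocLib.Decomp
import Groth.Agent.S17139
import Mathlib.LinearAlgebra.Charpoly.Basic
import Mathlib.LinearAlgebra.Charpoly.BaseChange
import Mathlib.LinearAlgebra.Charpoly.ToMatrix
import Mathlib.LinearAlgebra.Matrix.Charpoly.Eigs
import Mathlib.FieldTheory.IsAlgClosed.Basic
import Mathlib.FieldTheory.IsAlgClosed.Spectrum
import Mathlib.RingTheory.Polynomial.RationalRoot
import Mathlib.RingTheory.WittVector.DiscreteValuationRing
import Mathlib.RingTheory.IntegralClosure.IntegrallyClosed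

/-! # Eigenvalues of a linear iterate and slopes -/

namespace Groth.Agent.IsocLib

open Polynomial
open scoped Pointwise

universe u v w

/-- A root of the characteristic polynomial is a root of every annihilating polynomial. -/
theorem root_of_annihilator {K : Type u} {Ω : Type w} [Field K] [Field Ω] [Algebra K Ω] {V : Type v} [AddCommGroup V] [Module K V]
    [Module.Finite K V] (f : V →ₗ[K] V) {H : K[X]} (hH : aeval f H = 0) {α : Ω}
    (hα : α ∈ (f.charpoly.map (algebraMap K Ω)).roots) : aeval α H = 0 := by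
  classical
  let b := Module.finBasis K V
  let A := LinearMap.toMatrixAlgEquiv b f
  let φ : Matrix _ _ K →ₐ[K] Matrix (Fin (Module.finrank K V)) (Fin (Module.finrank K V)) Ω := (Algebra.ofId K Ω).mapMatrix
  have h1 : (A.charpoly.map (algebraMap K Ω)).IsRoot α := by
    have := isRoot_of_mem_roots hα
    rwa [← LinearMap.charpoly_toMatrix f b] at this
  rw [← Matrix.charpoly_map] at h1
  have h2 : α ∈ spectrum Ω (φ A) := Matrix.mem_spectrum_iff_isRoot_charpoly.2 h1
  have h3 := spectrum.subset_polynomial_aeval (φ A) (H.map (algebraMap K Ω)) ⟨α, h2, rfl⟩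
  have h4 : aeval (φ A) (H.map (algebraMap K Ω)) = 0 := by
    rw [aeval_map_algebraMap, aeval_algHom_apply]
    change φ (aeval (LinearMap.toMatrixAlgEquiv b f) H) = 0
    rw [aeval_algHom_apply, hH, map_zero, map_zero]
  haveI : Nonempty (Fin (Module.finrank K V)) := by
    by_contra hne
    rw [not_nonempty_iff] at hne
    rw [IsRoot, Matrix.charpoly_isEmpty, eval_one] at h1
    exact one_ne_zero h1
  rw [h4, spectrum.zero_eq, Set.mem_singleton_iff] at h3
  simp only [eval_map_algebraMap] at h3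
  exact h3

variable {p : ℕ} [Fact p.Prime] {k : Type u} [Field k] [CharP k p] [PerfectRing k p]
variable {Ω : Type w} [Field Ω] [Algebra (WittVector p k) Ω] [Algebra (FractionRing (WittVector p k)) Ω]
  [IsScalarTower (WittVector p k) (FractionRing (WittVector p k)) Ω]

/-- `α` has slope `μ`, for `m` steps. -/
def HasVal (m : ℕ) (μ : ℚ) (α : Ω) : Prop :=
  IsIntegral (WittVector p k) (α ^ μ.den * (algebraMap (FractionRing (WittVector p k)) Ω (p : (FractionRing (WittVector p k)))) ^ (-(μ.num * (m : ℤ))))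
    ∧ IsIntegral (WittVector p k) (α ^ μ.den * (algebraMap (FractionRing (WittVector p k)) Ω (p : (FractionRing (WittVector p k)))) ^ (-(μ.num * (m : ℤ))))⁻¹

theorem hasVal_unique {m : ℕ} (hm : 0 < m) {μ ν : ℚ} {α : Ω} (hα : α ≠ 0) (h : HasVal (p := p) (k := k) m μ α)
    (h' : HasVal (p := p) (k := k) m ν α) : μ = ν := by
  let W := WittVector p k
  let K := FractionRing (WittVector p k)
  let e : ℤ := ν.num * m * μ.den - μ.num * m * ν.den
  have hP : algebraMap K Ω (p : K) ≠ 0 := (_root_.map_ne_zero _).2 ne_zero_p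
  have key : (α ^ μ.den * algebraMap K Ω (p : K) ^ (-(μ.num * (m : ℤ)))) ^ ν.den *
      ((α ^ ν.den * algebraMap K Ω (p : K) ^ (-(ν.num * (m : ℤ))))⁻¹) ^ μ.den = algebraMap K Ω ((p : K) ^ e) := by
    rw [map_zpow₀, inv_pow, mul_pow, mul_pow, ← pow_mul, ← pow_mul, ← zpow_natCast (algebraMap K Ω (p : K) ^ _),
      ← zpow_natCast (algebraMap K Ω (p : K) ^ _), ← zpow_mul, ← zpow_mul, mul_inv, ← zpow_neg,
      mul_mul_mul_comm, mul_comm ν.den, mul_inv_cancel₀ (pow_ne_zero _ hα), one_mul, ← zpow_add₀ hP]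
    congr 1
    simp only [e]
    ring
  have hint : IsIntegral W (algebraMap K Ω ((p : K) ^ e)) := key ▸ (h.1.pow _).mul (h'.2.pow _)
  have hint' : IsIntegral W (algebraMap K Ω ((p : K) ^ (-e))) := by
    rw [zpow_neg, map_inv₀, ← key, mul_inv, ← inv_pow, ← inv_pow, inv_inv]
    exact (h.2.pow _).mul (h'.1.pow _)
  rw [isIntegral_algebraMap_iff (algebraMap K Ω).injective] at hint hint'
  obtain ⟨w, hw⟩ := IsIntegrallyClosed.isIntegral_iff.1 hint
  obtain ⟨w', hw'⟩ := IsIntegrallyClosed.isIntegral_iff.1 hint'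
  have h1 := ordP_nonneg (ordP_zpow e) hw.symm
  have h2 := ordP_nonneg (ordP_zpow (-e)) hw'.symm
  have h3 : μ.num * (ν.den : ℤ) = ν.num * μ.den := by
    have he : e = 0 := by omega
    simp only [e] at he
    refine mul_left_cancel₀ (Int.natCast_ne_zero.2 hm.ne') ?_
    linear_combination -he
  have h4 := (common_slope μ.pos ν.pos).1.1 h3
  rwa [μ.num_div_den, ν.num_div_den] at h4

variable {N : Type v} [AddCommGroup N] [Module (WittVector p k) N] [Module (FractionRing (WittVector p k)) N] [IsScalarTower (WittVector p k) (FractionRing (WittVector p k)) N]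
variable {τ : (FractionRing (WittVector p k)) →+* (FractionRing (WittVector p k))} (F : N →ₛₗ[τ] N)

theorem exists_annihilator (hF : Isoc.IsIsoc F) (hτ : Good τ) (m : ℕ) (π : N →ₗ[(FractionRing (WittVector p k))] N)
    (hπ : ∀ x, π x = (⇑F)^[m] x) (μ : ℚ) :
    ∃ H : (FractionRing (WittVector p k))[X], (∀ x ∈ Isoc.slopePart F μ, aeval π H x = 0) ∧
      ∀ α : Ω, aeval α H = 0 → HasVal (p := p) (k := k) m μ α ∧ (0 < m → α ≠ 0) := by
  haveI := hF.finite
  let W := WittVector p k
  let K := FractionRing (WittVector p k)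
  obtain ⟨hP, hiso⟩ := slopePart_spec F hF hτ μ
  generalize Isoc.slopePart F μ = P at hP hiso
  obtain ⟨M₀, hM₀, r, s, hs, hrs, he⟩ := (isIsoclinic_restrict_iff F hP μ).2 hiso
  have hFP := isIsoc_restrict F hF hτ hP
  let b := Module.finBasis K P
  obtain ⟨D, hD⟩ := ordP_exists (detCoeff_ne_zero hτ b (F.restrict hP) hFP.bijective.1)
  obtain ⟨c, B, -, hB, hord⟩ := exists_int_mat hτ (F.restrict hP) b hD hM₀ (eq_iterate _ hτ he m).le
  have hdet := det_eq_of_eq hτ (F.restrict hP) b hD hM₀ (eq_iterate _ hτ he m)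
  rw [show ((s * m : ℕ) : ℤ) * D - (Module.finrank K P : ℤ) * (r * m) = 0 by linarith] at hord
  obtain ⟨u, hu⟩ := hord
  rw [zpow_zero, one_mul] at hu
  have hBu : IsUnit B.det := IsFractionRing.injective W K hu ▸ u.isUnit
  have hq0 : IsUnit (B.charpoly.coeff 0) := by
    rw [Matrix.det_eq_sign_charpoly_coeff] at hBu
    exact isUnit_of_mul_isUnit_right hBu
  -- the polynomial
  let G : K[X] := C ((p : K) ^ (-(r * m))) * X ^ s
  refine ⟨(B.charpoly.map (algebraMap W K)).comp G, fun x hx => ?_, fun α hα => ?_⟩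
  · have hπP : ∀ y ∈ P, π y ∈ P := fun y hy => by rw [hπ]; exact stable_iterate F hP m hy
    have hit : ∀ (j : ℕ) (y : N), (π ^ j) y = (⇑F)^[m * j] y := fun j => by
      induction j with
      | zero => intro y; simp
      | succ j ih =>
        intro y
        rw [pow_succ', Module.End.mul_apply, ih, hπ, ← Function.iterate_add_apply, Nat.mul_succ, Nat.add_comm]
    let v : P →ₗ[K] P := (p : K) ^ (-(r * m)) • (π.restrict hπP) ^ s
    have hv : ∀ y : P, ((v y : P) : N) = (p : K) ^ (-(r * m)) • (⇑F)^[s * m] (y : N) := fun y => by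
      change (p : K) ^ (-(r * m)) • ((((π.restrict hπP) ^ s) y : P) : N) = _
      rw [Module.End.pow_restrict _ hπP, LinearMap.coe_restrict_apply, hit, mul_comm m]
    have hmat : LinearMap.toMatrix c c v = (algebraMap W K).mapMatrix B := by
      ext i j
      rw [LinearMap.toMatrix_apply]
      have h1 : v (c j) = ∑ l, algebraMap W K (B l j) • c l := Subtype.ext (by
        rw [hv, ← restrict_iterate F hP, hB]
        simp only [Submodule.coe_smul, Submodule.coe_sum, smul_smul, ← zpow_add₀ (ne_zero_p (p := p) (k := k)),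
          neg_add_cancel, zpow_zero, one_smul, smul_eq_algebraMap]
        rfl)
      rw [h1, c.repr_sum_self]
      rfl
    have hcp : aeval v (B.charpoly.map (algebraMap W K)) = 0 := by
      rw [← Matrix.charpoly_map, ← RingHom.mapMatrix_apply, ← hmat, LinearMap.charpoly_toMatrix]
      exact LinearMap.aeval_self_charpoly v
    have hG : aeval (π.restrict hπP) G = v := by
      simp only [G, map_mul, map_pow, aeval_C, aeval_X, v]
      exact (Algebra.smul_def _ _).symm
    have h2 : aeval (π.restrict hπP) ((B.charpoly.map (algebraMap W K)).comp G) ⟨x, hx⟩ = 0 := by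
      rw [aeval_comp, hG, hcp]; rfl
    have h3 : ∀ (Q : K[X]) (y : P), ((aeval (π.restrict hπP) Q y : P) : N) = aeval π Q (y : N) := by
      intro Q
      induction Q using Polynomial.induction_on' with
      | add f g hf hg => intro y; simp [hf, hg]
      | monomial n a =>
        intro y
        simp only [aeval_monomial, Module.End.mul_apply, Module.algebraMap_end_apply, Submodule.coe_smul]
        rw [Module.End.pow_restrict _ hπP, LinearMap.coe_restrict_apply]
    rw [← h3 _ ⟨x, hx⟩, h2]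
    rfl
  · let P' : Ω := algebraMap K Ω (p : K)
    have hP' : P' ≠ 0 := (_root_.map_ne_zero _).2 ne_zero_p
    let β : Ω := P' ^ (-(r * m)) * α ^ s
    have hGβ : aeval α G = β := by simp [G, β, P', map_zpow₀]
    rw [aeval_comp, hGβ, aeval_map_algebraMap] at hα
    have hβi : IsIntegral W β := ⟨B.charpoly, B.charpoly_monic, by rwa [← aeval_def]⟩
    obtain ⟨u₀, hu₀⟩ := hq0
    have h1 : β * aeval β B.charpoly.divX + algebraMap W Ω u₀ = 0 := by
      conv_rhs => rw [← hα, ← X_mul_divX_add B.charpoly, map_add, map_mul, aeval_X, aeval_C, ← hu₀]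
    have hu0 : algebraMap W Ω u₀ ≠ 0 := (u₀.isUnit.map _).ne_zero
    have hβ0 : β ≠ 0 := fun h => hu0 (by simpa [h] using h1)
    have hβ' : IsIntegral W β⁻¹ := by
      have h2 : β⁻¹ = -(algebraMap W Ω ↑u₀⁻¹ * aeval β B.charpoly.divX) := by
        refine inv_eq_of_mul_eq_one_right ?_
        rw [mul_neg, mul_left_comm, eq_neg_of_add_eq_zero_left h1, mul_neg, neg_neg, ← map_mul, Units.inv_mul, map_one]
      rw [h2]
      exact ((isIntegral_algebraMap).mul (IsIntegral.of_mem_of_fg _ hβi.fg_adjoin_singleton _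
        (Polynomial.aeval_mem_adjoin_singleton W β))).neg
    have hZ : μ.num * (s : ℤ) = r * (μ.den : ℤ) :=
      (common_slope μ.pos hs).1.2 (by rw [μ.num_div_den, hrs])
    let γ : Ω := α ^ μ.den * P' ^ (-(μ.num * (m : ℤ)))
    have hγ : γ ^ s = β ^ μ.den := by
      change (α ^ μ.den * P' ^ (-(μ.num * (m : ℤ)))) ^ s = (P' ^ (-(r * m)) * α ^ s) ^ μ.den
      rw [mul_pow, mul_pow, ← pow_mul, ← pow_mul, ← zpow_natCast (P' ^ (-(μ.num * (m : ℤ)))),
        ← zpow_natCast (P' ^ (-(r * m))), ← zpow_mul, ← zpow_mul, mul_comm s, mul_comm (α ^ _)]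
      congr 2
      linear_combination -(m : ℤ) * hZ
    refine ⟨⟨IsIntegral.of_pow hs (x := γ) (hγ ▸ hβi.pow _),
      IsIntegral.of_pow hs (x := γ⁻¹) (by rw [inv_pow, hγ, ← inv_pow]; exact hβ'.pow _)⟩, fun _ h0 => hβ0 ?_⟩
    simp [β, h0, hs.ne']

/-- The multiplicity of a slope is the number of eigenvalues of that slope. -/
theorem newtonMult_eq_countP [IsAlgClosed Ω] (hF : Isoc.IsIsoc F) (hτ : Good τ) {m : ℕ} (hm : 0 < m)
    (π : N →ₗ[(FractionRing (WittVector p k))] N) [Module.Finite (FractionRing (WittVector p k)) N]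
    (hπ : ∀ x, π x = (⇑F)^[m] x) (μ : ℚ) [DecidablePred (HasVal (p := p) (k := k) (Ω := Ω) m μ)] :
    Isoc.newtonMult F μ = Multiset.countP (HasVal (p := p) (k := k) (Ω := Ω) m μ)
      ((π.charpoly.map (algebraMap (FractionRing (WittVector p k)) Ω)).roots) := by
  let K := FractionRing (WittVector p k)
  let P : Submodule K N := Isoc.slopePart F μ
  let Q : Submodule K N := ⨆ ν ≠ μ, Isoc.slopePart F ν
  have hc : IsCompl P Q := ⟨iSupIndep_slopePart F hF hτ μ, codisjoint_iff.2 (top_unique (by
    rw [← iSup_slopePart F hF hτ]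
    exact iSup_le fun ν => by
      rcases eq_or_ne ν μ with rfl | hν
      · exact le_sup_left
      · exact le_sup_of_le_right (le_iSup₂_of_le ν hν le_rfl)))⟩
  have hS : ∀ ν, ∀ x ∈ Isoc.slopePart F ν, π x ∈ Isoc.slopePart F ν := fun ν x hx => by
    rw [hπ]; exact stable_iterate F (slopePart_spec F hF hτ ν).1 m hx
  have hQ : ∀ x ∈ Q, π x ∈ Q := by
    have : Q ≤ Q.comap π := iSup₂_le fun ν hν x hx => le_iSup₂ (f := fun ν (_ : ν ≠ μ) => Isoc.slopePart F ν) ν hν (hS ν x hx)
    exact fun x hx => this hx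
  let e := Submodule.prodEquivOfIsCompl P Q hc
  have hπe : π = e.conj (LinearMap.prodMap (π.restrict (hS μ)) (π.restrict hQ)) := by
    refine LinearMap.ext fun x => ?_
    obtain ⟨⟨a, b⟩, rfl⟩ := e.surjective x
    simp [LinearEquiv.conj_apply, e]
  rw [hπe, LinearEquiv.charpoly_conj, LinearMap.charpoly_prodMap, Polynomial.map_mul, roots_mul
    (mul_ne_zero (((LinearMap.charpoly_monic _).map _).ne_zero) (((LinearMap.charpoly_monic _).map _).ne_zero)),
    Multiset.countP_add]
  have hre : ∀ (R : Submodule K N) (hR : ∀ x ∈ R, π x ∈ R) (H : K[X]) (y : R), ((aeval (π.restrict hR) H y : R) : N) = aeval π H (y : N) := by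
    intro R hR H
    induction H using Polynomial.induction_on' with
    | add f g hf hg => intro y; simp [hf, hg]
    | monomial n a =>
      intro y
      simp only [aeval_monomial, Module.End.mul_apply, Module.algebraMap_end_apply, Submodule.coe_smul]
      rw [Module.End.pow_restrict _ hR, LinearMap.coe_restrict_apply]
  obtain ⟨H, hH, hH'⟩ := exists_annihilator (Ω := Ω) F hF hτ m π hπ μ
  have hall : ∀ α ∈ ((π.restrict (hS μ)).charpoly.map (algebraMap K Ω)).roots, HasVal (p := p) (k := k) m μ α :=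
    fun α hα => (hH' α (root_of_annihilator _ (LinearMap.ext fun y => Subtype.ext ((hre _ _ H y).trans (hH y.1 y.2))) hα)).1
  rw [Multiset.countP_eq_card.2 hall, (IsAlgClosed.splits _).natDegree_eq_card_roots.symm,
    Polynomial.natDegree_map, LinearMap.charpoly_natDegree, Multiset.countP_eq_zero.2 fun α hα hval => ?_, add_zero]
  · rfl
  let J : Submodule K N :=
    { carrier := {x | ∃ H : K[X], aeval α H ≠ 0 ∧ aeval π H x = 0}
      zero_mem' := ⟨1, by simp, by simp⟩
      add_mem' := fun {x y} ⟨f, hf, hfx⟩ ⟨g, hg, hgy⟩ => ⟨f * g, by rw [map_mul]; exact mul_ne_zero hf hg, by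
        rw [map_add]
        nth_rw 1 [mul_comm f g]
        rw [map_mul, map_mul, Module.End.mul_apply, hfx, map_zero, Module.End.mul_apply, hgy, map_zero, add_zero]⟩
      smul_mem' := fun c x ⟨f, hf, hfx⟩ => ⟨f, hf, by rw [map_smul, hfx, smul_zero]⟩ }
  have hJ : Q ≤ J := iSup₂_le fun ν hν x hx => by
    obtain ⟨H, hH, hH'⟩ := exists_annihilator (Ω := Ω) F hF hτ m π hπ ν
    exact ⟨H, fun h0 => hν (hasVal_unique hm ((hH' α h0).2 hm) (hH' α h0).1 hval), hH x hx⟩
  let b := Module.finBasis K Q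
  choose g hg hg' using fun i => hJ (b i).2
  have h5 : aeval α (∏ i, g i) = 0 := root_of_annihilator _ (b.ext fun i => Subtype.ext (by
    rw [hre, ← Finset.prod_erase_mul _ _ (Finset.mem_univ i), map_mul, Module.End.mul_apply, hg', map_zero]
    rfl)) hα
  rw [map_prod, Finset.prod_eq_zero_iff] at h5
  obtain ⟨i, -, hi⟩ := h5
  exact hg i hi

end Groth.Agent.IsocLib
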