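import Groth.Agent.IsocLib.Basic

/-! # Orders relative to lattices -/

namespace Groth.Agent.IsocLib

open scoped Pointwise

universe u v

variable {p : ℕ} [Fact p.Prime] {k : Type u} [Field k] [CharP k p] [PerfectRing k p]
variable {N : Type v} [AddCommGroup N] [Module (WittVector p k) N] [Module (FractionRing (WittVector p k)) N] [IsScalarTower (WittVector p k) (FractionRing (WittVector p k)) N]
variable {τ : (FractionRing (WittVector p k)) →+* (FractionRing (WittVector p k))} (F : N →ₛₗ[τ] N)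

theorem exists_mem_pPow {M : Submodule (WittVector p k) N} (hM : M.IsLattice (FractionRing (WittVector p k))) (x : N) :
    ∃ r : ℤ, x ∈ Isoc.pPow r M := by
  have hx : x ∈ Submodule.span (FractionRing (WittVector p k)) (M : Set N) := by rw [hM.span_eq_top]; trivial
  induction hx using Submodule.span_induction with
  | mem y hy => exact ⟨0, by rwa [pPow_zero]⟩
  | zero => exact ⟨0, zero_mem _⟩
  | add y z _ _ hy hz =>
    obtain ⟨r, hr⟩ := hy
    obtain ⟨s, hs⟩ := hz
    exact ⟨min r s, add_mem (pPow_anti (min_le_left r s) M hr) (pPow_anti (min_le_right r s) M hs)⟩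
  | smul c y _ hy =>
    obtain ⟨r, hr⟩ := hy
    obtain ⟨n, w, hw⟩ := exists_zpow_mul c
    refine ⟨r - n, ?_⟩
    rw [mem_pPow, smul_smul, show -(r - (n : ℤ)) = -r + n by ring, zpow_add₀ ne_zero_p, mul_assoc, hw,
      mul_comm, mul_smul, ← smul_eq_algebraMap]
    exact M.smul_mem _ (mem_pPow.1 hr)

theorem exists_le_pPow {M M' : Submodule (WittVector p k) N} (hM : M.IsLattice (FractionRing (WittVector p k))) (hM' : M'.FG) :
    ∃ r : ℤ, M' ≤ Isoc.pPow r M := by
  classical
  obtain ⟨t, rfl⟩ := hM'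
  induction t using Finset.induction_on with
  | empty => exact ⟨0, by simp⟩
  | insert a t _ ih =>
    obtain ⟨r, hr⟩ := ih
    obtain ⟨s, hs⟩ := exists_mem_pPow hM a
    refine ⟨min s r, ?_⟩
    rw [Finset.coe_insert, Submodule.span_le, Set.insert_subset_iff]
    exact ⟨pPow_anti (min_le_left s r) M hs, fun x hx => pPow_anti (min_le_right s r) M (hr (Submodule.subset_span hx))⟩

theorem eq_zero_of_forall_mem {M : Submodule (WittVector p k) N} (hM : M.FG) {x : N}
    (h : ∀ r : ℤ, ∃ r', r ≤ r' ∧ x ∈ Isoc.pPow r' M) : x = 0 := by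
  haveI := isNoetherian_of_fg_of_noetherian M hM
  have hm : ∀ j : ℕ, (p : (FractionRing (WittVector p k))) ^ (-(j : ℤ)) • x ∈ M := fun j => by
    obtain ⟨r', hr, hx⟩ := h j
    exact mem_pPow.1 (pPow_anti hr M hx)
  let y : ℕ → M := fun j => ⟨(p : (FractionRing (WittVector p k))) ^ (-(j : ℤ)) • x, hm j⟩
  have hy : ∀ j, y j = (p : (WittVector p k)) • y (j + 1) := fun j => Subtype.ext (by
    change (p : (FractionRing (WittVector p k))) ^ (-(j : ℤ)) • x = (p : (WittVector p k)) • ((p : (FractionRing (WittVector p k))) ^ (-((j + 1 : ℕ) : ℤ)) • x)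
    rw [smul_eq_algebraMap ((p : (WittVector p k))), algebraMap_p, smul_smul]
    congr 1
    rw [← zpow_one_add₀ ne_zero_p]
    congr 1
    push_cast
    ring)
  obtain ⟨j, hj⟩ := monotone_stabilizes_iff_noetherian.2 (inferInstance : IsNoetherian (WittVector p k) M)
    ⟨fun j => Submodule.span (WittVector p k) {y j}, monotone_nat_of_le_succ fun j => by
      rw [Submodule.span_singleton_le_iff_mem, hy j]
      exact Submodule.smul_mem _ _ (Submodule.mem_span_singleton_self _)⟩
  have hmem : y (j + 1) ∈ Submodule.span (WittVector p k) {y j} := by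
    have e : Submodule.span (WittVector p k) {y j} = Submodule.span (WittVector p k) {y (j + 1)} := hj (j + 1) (Nat.le_succ j)
    rw [e]; exact Submodule.mem_span_singleton_self _
  obtain ⟨w, hw⟩ := Submodule.mem_span_singleton.1 hmem
  rw [hy j, smul_smul] at hw
  have hu : IsUnit (w * (p : (WittVector p k)) - 1) := by
    by_contra hn
    have h1 : (w * (p : (WittVector p k))) ∈ IsLocalRing.maximalIdeal (WittVector p k) :=
      Ideal.mul_mem_left _ _ ((IsLocalRing.mem_maximalIdeal _).2 (WittVector.irreducible p).not_isUnit)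
    have h2 := sub_mem h1 ((IsLocalRing.mem_maximalIdeal _).2 hn)
    rw [sub_sub_cancel] at h2
    exact (IsLocalRing.mem_maximalIdeal _).1 h2 isUnit_one
  have h0 : y (j + 1) = 0 := hu.smul_left_cancel.1 (by rw [sub_smul, hw, one_smul, sub_self, smul_zero])
  exact (smul_eq_zero.1 (congrArg Subtype.val h0 : (p : (FractionRing (WittVector p k))) ^ (-((j + 1 : ℕ) : ℤ)) • x = 0)).resolve_left (zpow_ne _)

theorem iterate_injective (hF : Isoc.IsIsoc F) (s : ℕ) : Function.Injective (⇑F)^[s] :=
  hF.bijective.1.iterate s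

theorem latImg_le_latImg_iff (hF : Isoc.IsIsoc F) (hτ : Good τ) {s : ℕ} {M M' : Submodule (WittVector p k) N} :
    Isoc.latImg F s M ≤ Isoc.latImg F s M' ↔ M ≤ M' := by
  refine ⟨fun h m hm => ?_, latImg_mono F s⟩
  obtain ⟨m', hm', he⟩ := (mem_latImg F hτ).1 (h (mem_latImg_of_mem F hm))
  exact iterate_injective F hF s he ▸ hm'

theorem isLattice_pPow (r : ℤ) {M : Submodule (WittVector p k) N} (hM : M.IsLattice (FractionRing (WittVector p k))) :
    (Isoc.pPow r M).IsLattice (FractionRing (WittVector p k)) :=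
  haveI := hM
  Submodule.IsLattice.smul (FractionRing (WittVector p k)) M (Units.mk0 _ (zpow_ne r))

theorem isLattice_latImg (hF : Isoc.IsIsoc F) (hτ : Good τ) (s : ℕ) {M : Submodule (WittVector p k) N}
    (hM : M.IsLattice (FractionRing (WittVector p k))) : (Isoc.latImg F s M).IsLattice (FractionRing (WittVector p k)) := by
  refine ⟨fg_latImg F hτ s hM.fg, eq_top_iff.2 fun x _ => ?_⟩
  obtain ⟨y, rfl⟩ := (hF.bijective.2.iterate s) x
  have hy : y ∈ Submodule.span (FractionRing (WittVector p k)) (M : Set N) := by rw [hM.span_eq_top]; trivial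
  induction hy using Submodule.span_induction with
  | mem z hz => exact Submodule.subset_span (mem_latImg_of_mem F hz)
  | zero => rw [iterate_map_zero]; exact zero_mem _
  | add a b _ _ ha hb => rw [iterate_map_add]; exact add_mem (ha trivial) (hb trivial)
  | smul c a _ ha => rw [iterate_smul]; exact Submodule.smul_mem _ _ (ha trivial)

theorem exists_mem_ne_zero [Nontrivial N] {M : Submodule (WittVector p k) N} (hM : M.IsLattice (FractionRing (WittVector p k))) :
    ∃ x ∈ M, x ≠ (0 : N) := by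
  by_contra h
  push Not at h
  obtain ⟨y, hy⟩ := exists_ne (0 : N)
  have := hM.span_eq_top
  rw [Submodule.span_eq_bot.2 h] at this
  exact hy ((Submodule.mem_bot (FractionRing (WittVector p k))).1 (this ▸ Submodule.mem_top))

theorem le_of_pPow_le [Nontrivial N] {M : Submodule (WittVector p k) N} (hM : M.IsLattice (FractionRing (WittVector p k))) {r s : ℤ}
    (h : Isoc.pPow r M ≤ Isoc.pPow s M) : s ≤ r := by
  by_contra hlt
  have h1 : ∀ j : ℕ, M ≤ Isoc.pPow ((s - r) * j) M := fun j => by
    induction j with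
    | zero => rw [Nat.cast_zero, mul_zero, pPow_zero]
    | succ j ih =>
      refine ih.trans ?_
      have h2 := pPow_mono ((s - r) * j - r) h
      rw [pPow_pPow, pPow_pPow, sub_add_cancel] at h2
      rwa [show (s - r) * ((j + 1 : ℕ) : ℤ) = (s - r) * j - r + s by push_cast; ring]
  obtain ⟨x, hx, hx0⟩ := exists_mem_ne_zero hM
  refine hx0 (eq_zero_of_forall_mem hM.fg fun t => ⟨(s - r) * t.toNat, ?_, h1 _ hx⟩)
  have h3 : t ≤ (t.toNat : ℤ) := Int.self_le_toNat t
  nlinarith [Int.natCast_nonneg t.toNat]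

theorem exists_isOrd [Nontrivial N] (hF : Isoc.IsIsoc F) (hτ : Good τ) {M : Submodule (WittVector p k) N}
    (hM : M.IsLattice (FractionRing (WittVector p k))) (s : ℕ) : ∃ r, Isoc.IsOrd M F s r := by
  have hM' := isLattice_latImg F hF hτ s hM
  obtain ⟨r₀, hr₀⟩ := exists_le_pPow hM hM'.fg
  obtain ⟨c, hc⟩ := exists_le_pPow hM' hM.fg
  obtain ⟨r, hr, hmax⟩ := Int.exists_greatest_of_bdd
    (P := fun r => Isoc.latImg F s M ≤ Isoc.pPow r M)
    ⟨-c, fun r hr => le_neg.1 (by
      have h' := hc.trans (pPow_mono c hr)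
      rw [pPow_pPow] at h'
      have h'' := le_of_pPow_le hM ((pPow_zero M).symm ▸ h' : Isoc.pPow 0 M ≤ Isoc.pPow (c + r) M)
      omega)⟩ ⟨r₀, hr₀⟩
  exact ⟨r, hr, fun h => by have := hmax _ h; omega⟩

theorem le_of_isOrd {M : Submodule (WittVector p k) N} {s : ℕ} {o r : ℤ} (ho : Isoc.IsOrd M F s o)
    (h : Isoc.latImg F s M ≤ Isoc.pPow r M) : r ≤ o := by
  by_contra hlt
  exact ho.2 (h.trans (pPow_anti (by omega) M))

theorem isOrd_unique {M : Submodule (WittVector p k) N} {s : ℕ} {o o' : ℤ} (h : Isoc.IsOrd M F s o)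
    (h' : Isoc.IsOrd M F s o') : o = o' :=
  le_antisymm (le_of_isOrd F h' h.1) (le_of_isOrd F h h'.1)

theorem isOrd_of_eq [Nontrivial N] {M : Submodule (WittVector p k) N} (hM : M.IsLattice (FractionRing (WittVector p k))) {s : ℕ} {r : ℤ}
    (h : Isoc.latImg F s M = Isoc.pPow r M) : Isoc.IsOrd M F s r :=
  ⟨h.le, fun h' => by have := le_of_pPow_le hM (h ▸ h'); omega⟩

end Groth.Agent.IsocLib
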