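import Groth.Agent.IsocLib.Decomp
import Groth.Agent.SigmaLinLib.Basic

/-! # Lang's theorem for a unit-root lattice -/

namespace Groth.Agent.IsocLib

open scoped Pointwise

universe u v

variable {p : ℕ} [Fact p.Prime] {k : Type u} [Field k] [CharP k p] [PerfectRing k p]
variable {N : Type v} [AddCommGroup N] [Module (WittVector p k) N] [Module (FractionRing (WittVector p k)) N] [IsScalarTower (WittVector p k) (FractionRing (WittVector p k)) N]
variable {τ : (FractionRing (WittVector p k)) →+* (FractionRing (WittVector p k))} (G : N →ₛₗ[τ] N)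

omit [PerfectRing k p] in
theorem pPow_le_self {M : Submodule (WittVector p k) N} (i : ℕ) : Isoc.pPow i M ≤ M :=
  le_trans (pPow_anti (Int.natCast_nonneg i) M) (pPow_zero M).le

/-- A vector fixed modulo `p` lifts to a fixed vector. -/
theorem exists_fixed_lift (hτ : Good τ) {n : ℕ} (b : Module.Basis (Fin n) (FractionRing (WittVector p k)) N)
    {M : Submodule (WittVector p k) N} (hM : M.IsLattice (FractionRing (WittVector p k))) (hGM : Isoc.latImg G 1 M ≤ M)
    (hsub : ∀ y ∈ M, ∃ z ∈ M, y - z + G z ∈ Isoc.pPow 1 M) {x : N} (hx : x ∈ M) (hx1 : G x - x ∈ Isoc.pPow 1 M) :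
    ∃ v ∈ M, G v = v ∧ v - x ∈ Isoc.pPow 1 M := by
  have hG : ∀ (r : ℤ) y, y ∈ Isoc.pPow r M → G y ∈ Isoc.pPow r M := fun r y hy => by
    have h1 : (⇑G)^[1] y ∈ Isoc.latImg G 1 (Isoc.pPow r M) := mem_latImg_of_mem G hy
    rw [latImg_pPow G hτ] at h1
    exact pPow_mono r hGM h1
  have hstep : ∀ i : ℕ, ∀ y, (y ∈ M ∧ G y - y ∈ Isoc.pPow (i + 1 : ℕ) M) →
      ∃ y', (y' ∈ M ∧ G y' - y' ∈ Isoc.pPow (i + 1 + 1 : ℕ) M) ∧ y' - y ∈ Isoc.pPow (i + 1 : ℕ) M := by
    rintro i y ⟨hy, hy'⟩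
    obtain ⟨z, hz, hz'⟩ := hsub _ (mem_pPow.1 hy')
    refine ⟨y + (p : (FractionRing (WittVector p k))) ^ ((i + 1 : ℕ) : ℤ) • z,
      ⟨add_mem hy (pPow_le_self _ (smul_mem_pPow hz)), ?_⟩, by rw [add_sub_cancel_left]; exact smul_mem_pPow hz⟩
    have he : G (y + (p : (FractionRing (WittVector p k))) ^ ((i + 1 : ℕ) : ℤ) • z) -
        (y + (p : (FractionRing (WittVector p k))) ^ ((i + 1 : ℕ) : ℤ) • z) =
        (p : (FractionRing (WittVector p k))) ^ ((i + 1 : ℕ) : ℤ) •
          ((p : (FractionRing (WittVector p k))) ^ (-((i + 1 : ℕ) : ℤ)) • (G y - y) - z + G z) := by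
      rw [map_add, map_smulₛₗ, tau_zpow, smul_add, smul_sub, smul_smul, ← zpow_add₀ ne_zero_p, add_neg_cancel,
        zpow_zero, one_smul]
      abel
    rw [he, Nat.cast_succ (i + 1), ← pPow_pPow]
    exact smul_mem_pPow hz'
  choose g hg hg' using hstep
  let seq : (i : ℕ) → {y // y ∈ M ∧ G y - y ∈ Isoc.pPow (i + 1 : ℕ) M} := fun i =>
    Nat.rec ⟨x, hx, hx1⟩ (fun i y => ⟨g i y.1 y.2, hg i y.1 y.2⟩) i
  have hd : ∀ i : ℕ, (seq (i + 1)).1 - (seq i).1 ∈ Isoc.pPow (i + 1 : ℕ) M := fun i => hg' i (seq i).1 (seq i).2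
  obtain ⟨v, hv⟩ := exists_limit b hM (fun i => (seq i).1) fun i => pPow_anti (by push_cast; omega) M (hd i)
  have hvM : v ∈ M := by
    have h0 := hv 0
    rw [Nat.cast_zero, pPow_zero] at h0
    simpa using add_mem h0 (seq 0).2.1
  refine ⟨v, hvM, ?_, ?_⟩
  · refine sub_eq_zero.1 (eq_zero_of_forall_mem hM.fg fun r => ⟨(r.toNat : ℤ), Int.self_le_toNat r, ?_⟩)
    rw [show G v - v = G (v - (seq r.toNat).1) - (v - (seq r.toNat).1) + (G (seq r.toNat).1 - (seq r.toNat).1) by
      rw [map_sub]; abel]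
    exact add_mem (sub_mem (hG _ _ (hv _)) (hv _)) (pPow_anti (by push_cast; omega) M (seq r.toNat).2.2)
  · rw [← sub_add_sub_cancel v (seq 1).1 x]
    exact add_mem (hv 1) (hd 0)

theorem span_fixed_eq_top (hτ : Good τ) (σbar : k →+* k)
    (hres : ∀ w w' : WittVector p k, τ (algebraMap (WittVector p k) (FractionRing (WittVector p k)) w) =
      algebraMap (WittVector p k) (FractionRing (WittVector p k)) w' → WittVector.constantCoeff w' = σbar (WittVector.constantCoeff w))
    (h2 : ∀ (n : ℕ) (b : Fin (n + 1) → k), b ≠ 0 →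
      ∃ x : k, x ≠ 0 ∧ x = ∑ i : Fin (n + 1), (⇑σbar)^[i.val + 1] x * (⇑σbar)^[i.val] (b (Fin.rev i)))
    (h3 : ∀ c : k, ∃ y : k, σbar y - y + c = 0)
    {n : ℕ} (b : Module.Basis (Fin n) (FractionRing (WittVector p k)) N) {M : Submodule (WittVector p k) N}
    (hM : M.IsLattice (FractionRing (WittVector p k))) (hGM : Isoc.latImg G 1 M = M) :
    Submodule.span (FractionRing (WittVector p k)) {v : N | G v = v} = ⊤ := by
  obtain ⟨φ, hφ, hker⟩ := exists_residue_map b hM
  have hG : ∀ x ∈ M, G x ∈ M := fun x hx => by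
    have h1 : (⇑G)^[1] x ∈ Isoc.latImg G 1 M := mem_latImg_of_mem G hx
    rwa [hGM] at h1
  let G' : M → M := fun x => ⟨G x, hG x x.2⟩
  have hwd : ∀ x y : M, φ x = φ y → φ (G' x) = φ (G' y) := by
    intro x y h
    rw [← sub_eq_zero, ← map_sub, hker] at h ⊢
    have h1 : (⇑G)^[1] ((x - y : M) : N) ∈ Isoc.latImg G 1 (Isoc.pPow 1 M) := mem_latImg_of_mem G h
    rw [latImg_pPow G hτ, hGM] at h1
    simpa [G', map_sub] using h1
  have hsur : ∀ u, φ (Function.surjInv hφ u) = u := Function.surjInv_eq hφ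
  let Gb : (Fin n → k) →ₛₗ[σbar] (Fin n → k) :=
    { toFun := fun u => φ (G' (Function.surjInv hφ u))
      map_add' := fun u v => by
        rw [hwd _ (Function.surjInv hφ u + Function.surjInv hφ v) (by rw [map_add, hsur, hsur, hsur]), ← map_add]
        congr 1
        exact Subtype.ext (map_add G _ _)
      map_smul' := fun c u => by
        rw [hwd _ (WittVector.teichmuller p c • Function.surjInv hφ u) (by
          rw [map_smulₛₗ, hsur, hsur]; exact congrArg (· • u) (WittVector.teichmuller_coeff_zero p c).symm)]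
        obtain ⟨w', hw'⟩ := hτ.intW (WittVector.teichmuller p c)
        rw [show G' (WittVector.teichmuller p c • Function.surjInv hφ u) = w' • G' (Function.surjInv hφ u) from
          Subtype.ext (by
            change G (WittVector.teichmuller p c • ((Function.surjInv hφ u : M) : N)) = w' • G ((Function.surjInv hφ u : M) : N)
            rw [smul_eq_algebraMap (WittVector.teichmuller p c), map_smulₛₗ, hw', ← smul_eq_algebraMap]),
          map_smulₛₗ, hres _ _ hw']
        exact congrArg (fun c => σbar c • φ (G' (Function.surjInv hφ u))) (WittVector.teichmuller_coeff_zero p c) }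
  have hGb : ∀ x : M, Gb (φ x) = φ (G' x) := fun x => hwd _ _ (hsur _)
  have h1 : Submodule.span k (Set.range ⇑Gb) = ⊤ := by
    refine eq_top_iff.2 fun u _ => Submodule.subset_span ?_
    obtain ⟨z, hz⟩ := hφ u
    have h0 : (z : N) ∈ Isoc.latImg G 1 M := by rw [hGM]; exact z.2
    obtain ⟨y, hy, hyz⟩ := (mem_latImg G hτ).1 h0
    exact ⟨φ ⟨y, hy⟩, by rw [hGb, ← hz, show G' ⟨y, hy⟩ = z from Subtype.ext hyz]⟩
  have hfix := SigmaLinLib.span_fixed_eq_top Gb h1 h2 h3
  have hsub : ∀ y ∈ M, ∃ z ∈ M, y - z + G z ∈ Isoc.pPow 1 M := fun y hy => by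
    obtain ⟨u, hu⟩ := SigmaLinLib.sub_surjective_of_span_range Gb h1 h2 h3 (φ ⟨y, hy⟩)
    obtain ⟨z, rfl⟩ := hφ u
    refine ⟨z, z.2, (hker (⟨y, hy⟩ - z + G' z)).1 ?_⟩
    rw [map_add, map_sub, ← hGb, ← hu]
    simp only
    abel
  let X : Submodule (WittVector p k) N := Submodule.span (WittVector p k) {v | v ∈ M ∧ G v = v}
  have hX : X ≤ M := Submodule.span_le.2 fun v hv => hv.1
  have h4 : M ≤ X ⊔ Isoc.pPow 1 M := le_sup_of_map_le hker le_rfl hX (by
    refine le_trans le_top (hfix.symm.le.trans (Submodule.span_le.2 fun u (hu : Gb u = u) => ?_))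
    obtain ⟨x, rfl⟩ := hφ u
    have hx1 : G x - x ∈ Isoc.pPow 1 M := (hker (G' x - x)).1 (by rw [map_sub, ← hGb, hu, sub_self])
    obtain ⟨v, hv, hGv, hvx⟩ := exists_fixed_lift G hτ b hM hGM.le hsub x.2 hx1
    refine Submodule.subset_span ⟨⟨v, hv⟩, Submodule.subset_span ⟨hv, hGv⟩, ?_⟩
    rw [← sub_eq_zero, ← map_sub, hker]
    exact hvx)
  refine eq_top_iff.2 ?_
  rw [← hM.span_eq_top, Submodule.span_le]
  intro x hx
  have hx' : x ∈ X := le_of_le_sup_pPow hM.fg h4 hx
  induction hx' using Submodule.span_induction with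
  | mem v hv => exact Submodule.subset_span hv.2
  | zero => exact zero_mem _
  | add a c ha hc iha ihc => exact add_mem (iha (hX ha)) (ihc (hX hc))
  | smul w a ha iha =>
    rw [SetLike.mem_coe, smul_eq_algebraMap]
    exact Submodule.smul_mem _ _ (iha (hX ha))

end Groth.Agent.IsocLib
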